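import Mathlib
import Cfsg.Agent.Nodes.NormalForm
import Cfsg.Agent.KFacts.RgdTau
import Cfsg.Agent.KFacts.RgdChevCoord
import Cfsg.Agent.ChevalleyStructure.TorusRange
import Cfsg.Agent.S1034
import Cfsg.Agent.Tits.Roots
import Cfsg.Agent.Tits.Exchange
import Cfsg.Agent.ChevalleyStructure.CoxeterGeomTypes
import Cfsg.Agent.ChevalleyStructure.WeylChain
import Cfsg.Agent.ChevalleyStructure.WeylData
import Cfsg.Agent.KFacts.RgdFiltChev
import Cfsg.Prelude.Def_EvenType
import Cfsg.Agent.ChevFast.E6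
import Cfsg.Agent.ChevFast.E7
import Cfsg.Agent.ChevFast.E8
import Cfsg.Agent.ChevFast.F4
import Cfsg.Agent.ChevFast.Lin
import Cfsg.Agent.FastGrp
import Cfsg.Agent.Prune
set_option linter.all false
prune_inst 0x7ffdbcfbbbb8eddfffff7e77a6ddcdfdd9b89fffa6dff9cbffe06bff1b9f030089c5638d0fe010fe1ed6401410a87843f97eefffe86bdc7ffffd5ff41ffbee0ff5f7350851948c340fb80ff783f0778a7f3fffffffffffffffffffffffffffaeffbfffffffff
open scoped Cfsg.Agent.FastGrp

-- merged: Cfsg.Agent.PRankPar.Orbit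
section

/-!
# `p`-subgroups of parabolic subgroups and the torus (`p` different from the characteristic)

Let `R : RGD cs h r T n X`, `T` abelian, `S ⊆ T`, `H = P_J ∩ C(S)`. If all `|C_{X x}(S')| ≡ 1 mod p^(k+1)` (`S' ⊆ T`)
and `p^(k+1)` does not divide the number of `w ∈ W_J` with a representative centralising `S`, then for every
`p`-subgroup `E ≤ H` there is `g ∈ H` with `|E : E ∩ g T g⁻¹| ≤ p^k`.
-/

set_option autoImplicit false
set_option linter.unusedSectionVars false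

namespace Cfsg.Agent.PRankPar.Orbit

open CoxeterSystem Cfsg.Agent.ChevalleyStructure.CoxeterGeom Cfsg.Agent.Tits.Roots Cfsg.Agent.Tits.Core
  Cfsg.Agent.Tits.Exchange Cfsg.Agent.Nodes.Reps Cfsg.Agent.Nodes.BNOf Cfsg.Agent.Nodes.StabComb
  Cfsg.Agent.Nodes.Bruhat Cfsg.Agent.Nodes.OppDec Cfsg.Agent.Nodes.LeviDec Cfsg.Agent.Nodes.NormalForm
open scoped commutatorElement

/-! ### Sylow subgroups near a subgroup -/

section Sylow

open Subgroup

theorem exists_sylow_relIndex {G : Type*} [Group G] [Finite G] {p k : ℕ} [Fact p.Prime] {H : Subgroup G}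
    (h : ¬ p ^ (k + 1) ∣ H.index) : ∃ S : Sylow p G, H.relIndex (S : Subgroup G) ≤ p ^ k := by
  obtain ⟨P⟩ : Nonempty (Sylow p ↥H) := inferInstance
  have hP : IsPGroup p ↥((P : Subgroup ↥H).map H.subtype) := P.isPGroup'.map _
  obtain ⟨S, hS⟩ := hP.exists_le_sylow
  refine ⟨S, ?_⟩
  have hp : p.Prime := Fact.out
  have h1 : Nat.card ↥(S : Subgroup G) ≤ p ^ k * Nat.card ↥((P : Subgroup ↥H).map H.subtype) := by
    rw [Subgroup.card_map_of_injective H.subtype_injective]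
    rw [show Nat.card ↥(S : Subgroup G) = Nat.card S from rfl,
      show Nat.card ↥(P : Subgroup ↥H) = Nat.card P from rfl, S.card_eq_multiplicity, P.card_eq_multiplicity]
    have h2 : Nat.card ↥H * H.index = Nat.card G := H.card_mul_index
    rw [← h2, Nat.factorization_mul Nat.card_pos.ne' H.index_ne_zero_of_finite, Finsupp.add_apply, pow_add, mul_comm]
    refine Nat.mul_le_mul_right _ (Nat.pow_le_pow_right hp.pos ?_)
    by_contra hcon
    apply h
    rw [hp.pow_dvd_iff_le_factorization H.index_ne_zero_of_finite]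
    omega
  have h2 : (P : Subgroup ↥H).map H.subtype ≤ H ⊓ (S : Subgroup G) := le_inf (map_subtype_le _) hS
  have h3 : Nat.card ↥((P : Subgroup ↥H).map H.subtype) ≤ Nat.card ↥(H ⊓ (S : Subgroup G) : Subgroup G) :=
    Subgroup.card_le_of_le h2
  have h4 : Nat.card ↥(H ⊓ (S : Subgroup G) : Subgroup G) * (H ⊓ (S : Subgroup G)).relIndex (S : Subgroup G) =
      Nat.card ↥(S : Subgroup G) := by
    have h5 := relIndex_mul_relIndex (⊥ : Subgroup G) (H ⊓ (S : Subgroup G)) (S : Subgroup G) bot_le inf_le_right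
    rwa [relIndex_bot_left, relIndex_bot_left] at h5
  rw [inf_relIndex_right] at h4
  have h5 : 0 < Nat.card ↥(H ⊓ (S : Subgroup G) : Subgroup G) := Nat.card_pos
  have h6 : Nat.card ↥(H ⊓ (S : Subgroup G) : Subgroup G) * H.relIndex (S : Subgroup G) ≤
      Nat.card ↥(H ⊓ (S : Subgroup G) : Subgroup G) * p ^ k := by
    rw [h4, mul_comm _ (p ^ k)]
    exact h1.trans (Nat.mul_le_mul_left _ h3)
  exact Nat.le_of_mul_le_mul_left h6 h5

/-- A `p`-subgroup `E` of `H` is near a conjugate of `B`, if the `p`-part of `|H : B|` is small. -/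
theorem exists_conj_relIndex {G : Type*} [Group G] [Finite G] {p k : ℕ} [Fact p.Prime] {B H E : Subgroup G}
    (hBH : B ≤ H) (hEH : E ≤ H) (hE : IsPGroup p ↥E) (h : ¬ p ^ (k + 1) ∣ B.relIndex H) :
    ∃ g ∈ H, (cj g B).relIndex E ≤ p ^ k := by
  obtain ⟨S, hS⟩ := exists_sylow_relIndex (H := B.subgroupOf H) h
  -- a conjugate of `S` contains `E`
  have hE' : IsPGroup p ↥(E.subgroupOf H) :=
    hE.of_equiv (Subgroup.subgroupOfEquivOfLe hEH).symm
  obtain ⟨S', hS'⟩ := hE'.exists_le_sylow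
  obtain ⟨g, hg⟩ := MulAction.exists_smul_eq (↥H) S S'
  refine ⟨g, g.2, ?_⟩
  have h1 : (S' : Subgroup ↥H) = (S : Subgroup ↥H).map (MulAut.conj g).toMonoidHom := by
    rw [← hg]; rfl
  have h2 : (cj g (B.subgroupOf H)).relIndex (S' : Subgroup ↥H) ≤ p ^ k := by
    rw [h1]
    refine le_trans (le_of_eq ?_) hS
    exact Subgroup.relIndex_map_map_of_injective _ _ (MulAut.conj g).injective
  have h3 : (cj g (B.subgroupOf H)).relIndex (E.subgroupOf H) ≤ p ^ k := by
    refine le_trans ?_ h2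
    refine Subgroup.relIndex_le_of_le_right hS' fun h0 => ?_
    have h1 := Subgroup.relIndex_dvd_card (cj g (B.subgroupOf H)) (S' : Subgroup ↥H)
    rw [h0, Nat.zero_dvd] at h1
    exact (Nat.card_pos (α := ↥(S' : Subgroup ↥H))).ne' h1
  have h4 : cj g (B.subgroupOf H) = (cj (g : G) B).subgroupOf H := by
    ext x
    rw [mem_cj, Subgroup.mem_subgroupOf, Subgroup.mem_subgroupOf, mem_cj]
    rfl
  rw [h4, Subgroup.relIndex_subgroupOf hEH] at h3
  exact h3

end Sylow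

variable {I W Y : Type*} [Fintype I] [DecidableEq I] [Group W] [Group Y] {M : CoxeterMatrix I}
  {cs : CoxeterSystem M W} {A : I → I → ℤ} {h : IsCartan M A} {r : ℕ} {T : Subgroup Y} {n : I → Y}
  {X : (I → ℤ) → Subgroup Y}

theorem NW_one : NW cs h (1 : W) = ∅ := by
  ext x
  simp only [Set.mem_empty_iff_false, iff_false]
  rintro ⟨hx, h0, h1⟩
  rw [map_one, Module.End.one_apply] at h1
  exact hx.not_pos_neg h0 h1

variable (R : RGD cs h r T n X)

include R

/-- The order of `Sup X (NW w) ∩ C(S)` modulo `m`. -/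
theorem card_inf_NW [Finite W] [Finite Y] {m : ℕ}
    (hm : ∀ S : Set Y, S ⊆ T → ∀ x, IsRoot cs h x → Nat.card ↥(X x ⊓ Subgroup.centralizer S) ≡ 1 [MOD m]) :
    ∀ (w : W) {S : Set Y}, S ⊆ T → Nat.card ↥(RGD.Sup X (NW cs h w) ⊓ Subgroup.centralizer S) ≡ 1 [MOD m] := by
  intro w
  induction hn : cs.length w using Nat.strong_induction_on generalizing w with
  | _ N ih =>
  intro S hS
  by_cases hw1 : w = 1
  · subst hw1
    rw [NW_one, Sup_empty, bot_inf_eq, Subgroup.card_bot]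
  obtain ⟨i, hi⟩ := cs.exists_rightDescent_of_ne_one hw1
  have hi' : cs.length (w * cs.simple i) < cs.length w := hi
  set w' := w * cs.simple i with hw'
  have hww : w' * cs.simple i = w := by rw [hw', mul_assoc, simple_mul_simple_self, mul_one]
  have hpos : 0 ≤ rep cs h w' (sr i) := (lt_iff' cs h w' i).1 (by rw [hww]; omega)
  have hws : ∀ x : I → ℤ, rep cs h w (rep cs h (cs.simple i) x) = rep cs h w' x := by
    intro x; rw [← rep_mul_apply]
  have hws' : ∀ x : I → ℤ, rep cs h w' (rep cs h (cs.simple i) x) = rep cs h w x := by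
    intro x; rw [← rep_mul_apply, hww]
  have hneg : rep cs h w (sr i) ≤ 0 := by
    have h1 := hws' (sr i)
    rw [rep_simple_sr, map_neg] at h1
    rw [← h1]
    exact neg_nonpos.2 hpos
  -- the conjugate of `S`
  set S' : Set Y := (fun s => n i * s * (n i)⁻¹) '' S with hS'
  have hS'T : S' ⊆ T := by
    rintro _ ⟨s, hs, rfl⟩
    have h1 := cj_T R (rp_simple cs R.nsys i)
    have h2 : n i * s * (n i)⁻¹ ∈ cj (n i) T := conj_mem_cj.2 (hS hs)
    rwa [h1] at h2
  have hcent : ∀ y : Y, y ∈ Subgroup.centralizer S' ↔ (n i)⁻¹ * y * n i ∈ Subgroup.centralizer S := by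
    intro y
    rw [Subgroup.mem_centralizer_iff, Subgroup.mem_centralizer_iff]
    constructor
    · intro h1 s hs
      have h2 := h1 _ ⟨s, hs, rfl⟩
      have e1 : s * ((n i)⁻¹ * y * n i) = (n i)⁻¹ * (n i * s * (n i)⁻¹ * y) * n i := by group
      have e2 : (n i)⁻¹ * y * n i * s = (n i)⁻¹ * (y * (n i * s * (n i)⁻¹)) * n i := by group
      rw [e1, e2]
      exact congrArg (fun z => (n i)⁻¹ * z * n i) h2
    · rintro h1 _ ⟨s, hs, rfl⟩
      have h2 := h1 s hs
      have e1 : n i * s * (n i)⁻¹ * y = n i * (s * ((n i)⁻¹ * y * n i)) * (n i)⁻¹ := by group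
      have e2 : y * (n i * s * (n i)⁻¹) = n i * ((n i)⁻¹ * y * n i * s) * (n i)⁻¹ := by group
      show n i * s * (n i)⁻¹ * y = y * (n i * s * (n i)⁻¹)
      rw [e1, e2, h2]
  have hcard : Nat.card ↥(RGD.Sup X (NW cs h w) ⊓ Subgroup.centralizer S) =
      Nat.card ↥(RGD.Sup X (NW cs h w') ⊓ Subgroup.centralizer S') *
        Nat.card ↥(X (sr i) ⊓ Subgroup.centralizer S) := by
    rw [← Nat.card_prod]
    symm
    have hN : ∀ c ∈ RGD.Sup X (NW cs h w'), (n i)⁻¹ * c * n i ∈ RGD.Sup X (NW cs h w \ {sr i}) := by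
      intro c hc
      refine conj_mem_Sup' R (rp_simple cs R.nsys i) (fun x hx => hx.1) (fun x hx => ?_) hc
      rw [inv_simple]
      have hxi : x ≠ sr i := by
        rintro rfl
        exact ((isRoot_sr cs h i).act w').not_pos_neg hpos hx.2.2
      refine ⟨⟨hx.1.act _, hx.1.simple_nonneg hx.2.1 i hxi, by rw [hws]; exact hx.2.2⟩, ?_⟩
      intro h1
      have h1' : rep cs h (cs.simple i) x = sr i := h1
      have h2 : x = rep cs h (cs.simple i) (sr i) := by
        rw [← h1', ← rep_mul_apply, simple_mul_simple_self, map_one, Module.End.one_apply]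
      rw [rep_simple_sr] at h2
      have h3 := hx.2.1 i
      rw [h2, Pi.neg_apply, sr_self] at h3
      exact absurd h3 (by simp)
    have hN1 : RGD.Sup X (NW cs h w \ {sr i}) ≤ RGD.Sup X (RGD.PosNe cs h i) :=
      RGD.Sup_mono fun x hx => ⟨hx.1.1, hx.1.2.1, hx.2⟩
    have hN2 : RGD.Sup X (NW cs h w \ {sr i}) ≤ RGD.Sup X (NW cs h w) :=
      RGD.Sup_mono fun x hx => hx.1
    have hmem : sr i ∈ NW cs h w := ⟨isRoot_sr cs h i, sr_nonneg i, hneg⟩
    refine Nat.card_congr (Equiv.ofBijective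
      (fun q : ↥(RGD.Sup X (NW cs h w') ⊓ Subgroup.centralizer S') × ↥(X (sr i) ⊓ Subgroup.centralizer S) =>
        (⟨((n i)⁻¹ * (q.1 : Y) * n i) * (q.2 : Y), mul_mem
          (Subgroup.mem_inf.2 ⟨hN2 (hN _ (Subgroup.mem_inf.1 q.1.2).1), (hcent _).1 (Subgroup.mem_inf.1 q.1.2).2⟩)
          (Subgroup.mem_inf.2 ⟨RGD.le_Sup hmem (Subgroup.mem_inf.1 q.2.2).1, (Subgroup.mem_inf.1 q.2.2).2⟩)⟩ :
          ↥(RGD.Sup X (NW cs h w) ⊓ Subgroup.centralizer S))) ⟨?_, ?_⟩)
    · rintro ⟨⟨c, hc⟩, ⟨u, hu⟩⟩ ⟨⟨c', hc'⟩, ⟨u', hu'⟩⟩ e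
      have e1 : (n i)⁻¹ * c * n i * u = (n i)⁻¹ * c' * n i * u' := congrArg Subtype.val e
      have h1 : ((n i)⁻¹ * c' * n i)⁻¹ * ((n i)⁻¹ * c * n i) = u' * u⁻¹ := by
        rw [inv_mul_eq_iff_eq_mul, ← mul_assoc, ← e1, mul_inv_cancel_right]
      have h2 : u' * u⁻¹ = 1 := by
        refine eq_one_of_mem_PosNe R (mul_mem (Subgroup.mem_inf.1 hu').1 (inv_mem (Subgroup.mem_inf.1 hu).1)) ?_
        rw [← h1]
        exact hN1 (mul_mem (inv_mem (hN _ (Subgroup.mem_inf.1 hc').1)) (hN _ (Subgroup.mem_inf.1 hc).1))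
      rw [h2] at h1
      have h3 : u' = u := mul_inv_eq_one.1 h2
      have h4 : (n i)⁻¹ * c' * n i = (n i)⁻¹ * c * n i := inv_mul_eq_one.1 h1
      have h5 : c' = c := by
        have := congrArg (fun z => n i * z * (n i)⁻¹) h4
        simpa only [mul_assoc, _root_.mul_inv_cancel_left, _root_.mul_inv_cancel, _root_.mul_one] using this
      subst h3 h5
      rfl
    · rintro ⟨a, ha⟩
      obtain ⟨ha1, ha2⟩ := Subgroup.mem_inf.1 ha
      obtain ⟨b, hb, u, hu, rfl⟩ := exists_mul R (S := NW cs h w) (i := i) (fun x hx => ⟨hx.1, hx.2.1⟩) hmem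
        (fun y hy _ z hz => ⟨hz.1, btwn_nonneg hz (sr_nonneg i) hy.2.1, by
          have h1 := hz.act w
          exact RGD.nonpos_of_btwn hneg hy.2.2 h1⟩) ha1
      -- both factors centralise `S`
      have hsplit : ∀ s ∈ S, s * b * s⁻¹ = b ∧ s * u * s⁻¹ = u := by
        intro s hs
        have hsT : s ∈ T := hS hs
        have h1 : s * (b * u) = b * u * s := Subgroup.mem_centralizer_iff.1 ha2 s hs
        have h2 : s * b * s⁻¹ ∈ RGD.Sup X (NW cs h w \ {sr i}) :=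
          (Subgroup.mem_normalizer_iff.1 (R.T_le_normalizer (S := NW cs h w \ {sr i}) (fun x hx => hx.1.1) hsT) b).1 hb
        have h3 : s * u * s⁻¹ ∈ X (sr i) := by
          rw [← R.tor _ (isRoot_sr cs h i) s hsT]; exact conj_mem_cj.2 hu
        have h4 : b⁻¹ * (s * b * s⁻¹) = u * (s * u * s⁻¹)⁻¹ := by
          have h5 : (s * b * s⁻¹) * (s * u * s⁻¹) = b * u := by
            have : (s * b * s⁻¹) * (s * u * s⁻¹) = s * (b * u) * s⁻¹ := by group
            rw [this, h1]; group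
          rw [eq_mul_inv_iff_mul_eq, mul_assoc, h5]; group
        have h5 : u * (s * u * s⁻¹)⁻¹ = 1 := by
          refine eq_one_of_mem_PosNe R (mul_mem hu (inv_mem h3)) ?_
          rw [← h4]
          exact hN1 (mul_mem (inv_mem hb) h2)
        rw [h5] at h4
        exact ⟨(inv_mul_eq_one.1 h4).symm, (mul_inv_eq_one.1 h5).symm⟩
      have hbc : b ∈ Subgroup.centralizer S := Subgroup.mem_centralizer_iff.2 fun s hs =>
        mul_inv_eq_iff_eq_mul.1 (hsplit s hs).1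
      have huc : u ∈ Subgroup.centralizer S := Subgroup.mem_centralizer_iff.2 fun s hs =>
        mul_inv_eq_iff_eq_mul.1 (hsplit s hs).2
      have hb' : n i * b * (n i)⁻¹ ∈ RGD.Sup X (NW cs h w') := by
        refine conj_mem_Sup R (rp_simple cs R.nsys i) (fun x hx => hx.1.1) (fun x hx => ?_) hb
        exact ⟨hx.1.1.act _, hx.1.1.simple_nonneg hx.1.2.1 i hx.2, by rw [hws']; exact hx.1.2.2⟩
      refine ⟨(⟨n i * b * (n i)⁻¹, Subgroup.mem_inf.2 ⟨hb', (hcent _).2 ?_⟩⟩,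
        ⟨u, Subgroup.mem_inf.2 ⟨hu, huc⟩⟩), Subtype.ext ?_⟩
      · have : (n i)⁻¹ * (n i * b * (n i)⁻¹) * n i = b := by group
        rw [this]; exact hbc
      · show (n i)⁻¹ * (n i * b * (n i)⁻¹) * n i * u = b * u
        group
  rw [hcard]
  have h1 := (ih (cs.length w') (by omega) w' rfl hS'T).mul (hm S hS (sr i) (isRoot_sr cs h i))
  rwa [mul_one] at h1

/-- the elements of `W_J` with a representative centralising `S` -/
def WS (R : RGD cs h r T n X) (J : Set I) (S : Set Y) : Set W :=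
  {w | w ∈ WJ cs J ∧ ∃ k, Rp cs R.nsys w k ∧ k ∈ Subgroup.centralizer S}

/-- the index of `T` in `P_J ∩ C(S)` -/
theorem relIndex_T [Finite W] [Finite Y] {J : Set I} {S : Set Y} (hS : S ⊆ T) (hT : T ≤ Subgroup.centralizer S) :
    T.relIndex (PJ cs h T X J ⊓ Subgroup.centralizer S) =
      Nat.card ↥(RGD.Sup X (RGD.Pos cs h) ⊓ Subgroup.centralizer S) *
        Nat.card (Σ w : ↥(WS R J S), ↥(RGD.Sup X (NW cs h w.1) ⊓ Subgroup.centralizer S)) := by
  have hTH : T ≤ PJ cs h T X J ⊓ Subgroup.centralizer S :=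
    le_inf (le_trans T_le_LJ LJ_le_PJ) hT
  have hrep : ∀ w : ↥(WS R J S), ∃ k, Rp cs R.nsys w.1 k ∧ k ∈ Subgroup.centralizer S := fun w => w.2.2
  choose k hk hkc using hrep
  have hcard : Nat.card ↥(PJ cs h T X J ⊓ Subgroup.centralizer S) =
      Nat.card ↥T * (Nat.card ↥(RGD.Sup X (RGD.Pos cs h) ⊓ Subgroup.centralizer S) *
        Nat.card (Σ w : ↥(WS R J S), ↥(RGD.Sup X (NW cs h w.1) ⊓ Subgroup.centralizer S))) := by
    rw [← Nat.card_prod, ← Nat.card_prod]
    symm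
    have hf : ∀ q : ↥T × (↥(RGD.Sup X (RGD.Pos cs h) ⊓ Subgroup.centralizer S) ×
        (Σ w : ↥(WS R J S), ↥(RGD.Sup X (NW cs h w.1) ⊓ Subgroup.centralizer S))),
        (q.2.1 : Y) * ((q.1 : Y) * k q.2.2.1) * (q.2.2.2 : Y) ∈ PJ cs h T X J ⊓ Subgroup.centralizer S := by
      rintro ⟨t, u, w, v⟩
      rw [Subgroup.mem_inf]
      refine ⟨(mem_PJ_iff_cell R).2 ⟨w.1, w.2.1, u, RGD.U_le_B (Subgroup.mem_inf.1 u.2).1, (t : Y) * k w, ?_, v,
        RGD.U_le_B (RGD.Sup_mono (S := NW cs h w.1) (S' := RGD.Pos cs h) (fun x hx => ⟨hx.1, hx.2.1⟩)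
          (Subgroup.mem_inf.1 v.2).1), rfl⟩, ?_⟩
      · have := (rp_of_mem (cs := cs) (hN := R.nsys) t.2).mul (hk w)
        rwa [one_mul] at this
      · exact mul_mem (mul_mem (Subgroup.mem_inf.1 u.2).2 (mul_mem (hT t.2) (hkc w))) (Subgroup.mem_inf.1 v.2).2
    refine Nat.card_congr (Equiv.ofBijective (fun q => (⟨_, hf q⟩ : ↥(PJ cs h T X J ⊓ Subgroup.centralizer S)))
      ⟨?_, ?_⟩)
    · rintro ⟨t, u, w, v⟩ ⟨t', u', w', v'⟩ e
      have e1 : (u : Y) * ((t : Y) * k w) * (v : Y) = (u' : Y) * ((t' : Y) * k w') * (v' : Y) :=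
        congrArg Subtype.val e
      have hu := (Subgroup.mem_inf.1 u.2).1
      have hu' := (Subgroup.mem_inf.1 u'.2).1
      have hv := (Subgroup.mem_inf.1 v.2).1
      have hv' := (Subgroup.mem_inf.1 v'.2).1
      have hkt : Rp cs R.nsys w.1 ((t : Y) * k w) := by
        have := (rp_of_mem (cs := cs) (hN := R.nsys) t.2).mul (hk w)
        rwa [one_mul] at this
      have hkt' : Rp cs R.nsys w'.1 ((t' : Y) * k w') := by
        have := (rp_of_mem (cs := cs) (hN := R.nsys) t'.2).mul (hk w')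
        rwa [one_mul] at this
      have hUN : ∀ w : W, RGD.Sup X (NW cs h w) ≤ RGD.Sup X (RGD.Pos cs h) := fun w =>
        RGD.Sup_mono fun x hx => ⟨hx.1, hx.2.1⟩
      have hww : w.1 = w'.1 := by
        refine Cell.unique R (g := (u : Y) * ((t : Y) * k w) * (v : Y))
          ⟨u, RGD.U_le_B hu, _, hkt, v, RGD.U_le_B (hUN _ hv), rfl⟩ ?_
        rw [e1]
        exact ⟨u', RGD.U_le_B hu', _, hkt', v', RGD.U_le_B (hUN _ hv'), rfl⟩
      have hww' : w = w' := Subtype.ext hww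
      subst hww'
      obtain ⟨h1, h2, h3⟩ := normal_form_unique R hu hu' hkt hkt' hv hv' e1
      have h4 : t = t' := Subtype.ext (mul_right_cancel h2)
      have h5 : u = u' := Subtype.ext h1
      have h6 : v = v' := Subtype.ext h3
      subst h4 h5 h6
      rfl
    · rintro ⟨g, hg⟩
      obtain ⟨hg1, hg2⟩ := Subgroup.mem_inf.1 hg
      obtain ⟨w, hw, hc⟩ := (mem_PJ_iff_cell R).1 hg1
      obtain ⟨u, hu, k', hk', v, hv, rfl⟩ := exists_normal_form R hc
      obtain ⟨h1, h2, h3⟩ := centralizer_form R hS hu hk' hv hg2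
      have ht : k' * (k ⟨w, hw, k', hk', h2⟩)⁻¹ ∈ T := by
        have := hk'.mul (hk ⟨w, hw, k', hk', h2⟩).inv
        rw [mul_inv_cancel] at this
        exact this.mem_of_one
      refine ⟨(⟨_, ht⟩, ⟨u, Subgroup.mem_inf.2 ⟨hu, h1⟩⟩, ⟨⟨w, hw, k', hk', h2⟩, ⟨v, Subgroup.mem_inf.2 ⟨hv, h3⟩⟩⟩),
        Subtype.ext ?_⟩
      show u * (k' * (k ⟨w, hw, k', hk', h2⟩)⁻¹ * k ⟨w, hw, k', hk', h2⟩) * v = u * k' * v
      rw [inv_mul_cancel_right]
  have h1 : Nat.card ↥T * T.relIndex (PJ cs h T X J ⊓ Subgroup.centralizer S) =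
      Nat.card ↥(PJ cs h T X J ⊓ Subgroup.centralizer S) := by
    have h2 := Subgroup.relIndex_mul_relIndex (⊥ : Subgroup Y) T (PJ cs h T X J ⊓ Subgroup.centralizer S) bot_le hTH
    rwa [Subgroup.relIndex_bot_left, Subgroup.relIndex_bot_left] at h2
  rw [hcard] at h1
  exact Nat.eq_of_mul_eq_mul_left Nat.card_pos h1

/-- **`p`-subgroups of `P_J ∩ C(S)` are nearly contained in conjugates of `T`.** -/
theorem exists_toral [Finite W] [Finite Y] [Fact r.Prime] {p k : ℕ} [Fact p.Prime] (hpr : p ≠ r)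
    (hm : ∀ S : Set Y, S ⊆ T → ∀ x, IsRoot cs h x → Nat.card ↥(X x ⊓ Subgroup.centralizer S) ≡ 1 [MOD p ^ (k + 1)])
    {J : Set I} {S : Set Y} (hS : S ⊆ T) (hT : T ≤ Subgroup.centralizer S)
    (hW : ¬ p ^ (k + 1) ∣ Nat.card ↥(WS R J S)) {E : Subgroup Y} (hE : IsPGroup p ↥E)
    (hEP : E ≤ PJ cs h T X J ⊓ Subgroup.centralizer S) :
    ∃ g ∈ PJ cs h T X J ⊓ Subgroup.centralizer S, (cj g T).relIndex E ≤ p ^ k := by
  refine exists_conj_relIndex (le_inf (le_trans T_le_LJ LJ_le_PJ) hT) hEP hE ?_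
  rw [relIndex_T R hS hT]
  have hp : p.Prime := Fact.out
  have hr : r.Prime := Fact.out
  intro hdvd
  apply hW
  -- the order of `U ∩ C(S)` is prime to `p`
  have h1 : (p ^ (k + 1)).Coprime (Nat.card ↥(RGD.Sup X (RGD.Pos cs h) ⊓ Subgroup.centralizer S)) := by
    have h2 : IsPGroup r ↥(RGD.Sup X (RGD.Pos cs h) ⊓ Subgroup.centralizer S) :=
      R.isPGroup_Upos.to_le inf_le_left
    obtain ⟨j, hj⟩ := (IsPGroup.iff_card (p := r)).1 h2
    rw [hj]
    exact Nat.Coprime.pow _ _ ((Nat.coprime_primes hp hr).2 hpr)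
  have h2 := h1.dvd_of_dvd_mul_left hdvd
  -- the number of pairs
  have h3 : Nat.card (Σ w : ↥(WS R J S), ↥(RGD.Sup X (NW cs h w.1) ⊓ Subgroup.centralizer S)) ≡
      Nat.card ↥(WS R J S) [MOD p ^ (k + 1)] := by
    classical
    have : Fintype ↥(WS R J S) := Fintype.ofFinite _
    rw [Nat.card_sigma, Nat.card_eq_fintype_card, ← Finset.card_univ, Finset.card_eq_sum_ones]
    exact Nat.ModEq.sum fun w _ => card_inf_NW R hm w.1 hS
  exact (Nat.modEq_zero_iff_dvd.1 (h3.symm.trans (Nat.modEq_zero_iff_dvd.2 h2)))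

end Cfsg.Agent.PRankPar.Orbit

end

-- merged: Cfsg.Agent.PRankPar.Frob
section

/-!
# `p`-rank of the fixed points of a Frobenius automorphism in a parabolic subgroup

Setting: root group datum `R` with coordinates over a finite field `K`, `p² ∣ |K| - 1`, `β` an automorphism with
diagram symmetry `σ` and field automorphism `τ a = a ^ q`.
* `exists_eig` : for `A ≤ T`, `g ∈ P_J` with `g A g⁻¹` fixed by `β` there is `w ∈ W_J` with
  `χ (w (σ α_i)) t = (χ α_i t) ^ q` on `A`;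
* `not_four` : a group of order `p⁴` and exponent `p` in `P_J` fixed by `β` does not exist, given the linear algebra
  facts `hA`, `hB` for `w σ`.
-/

set_option autoImplicit false
set_option linter.unusedSectionVars false

namespace Cfsg.Agent.PRankPar.Frob

open CoxeterSystem Cfsg.Agent.ChevalleyStructure.CoxeterGeom Cfsg.Agent.Tits.Roots Cfsg.Agent.Tits.Core
  Cfsg.Agent.Tits.Exchange Cfsg.Agent.Nodes.Reps Cfsg.Agent.Nodes.BNOf Cfsg.Agent.Nodes.StabComb
  Cfsg.Agent.Nodes.Bruhat Cfsg.Agent.Nodes.OppDec Cfsg.Agent.Nodes.LeviDec Cfsg.Agent.Nodes.NormalForm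
  Cfsg.Agent.KFacts.RgdAut Cfsg.Agent.KFacts.RgdDiag
  Cfsg.Agent.KFacts.RgdField Cfsg.Agent.KFacts.RgdTau Cfsg.Agent.PRankPar.Orbit
open scoped commutatorElement

variable {I W Y : Type*} [Fintype I] [DecidableEq I] [Group W] [Group Y] {M : CoxeterMatrix I}
  {cs : CoxeterSystem M W} {A : I → I → ℤ} {h : IsCartan M A} {r : ℕ} {T : Subgroup Y} {n : I → Y}
  {X : (I → ℤ) → Subgroup Y} {K : Type*} [Field K] {x : (I → ℤ) → K → Y} {χ : (I → ℤ) → Y → K}

/-! ### one root group -/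

theorem card_X [Finite K] (C : Coords cs h T n X x χ) {s : I → ℤ} (hs : IsRoot cs h s) :
    Nat.card ↥(X s) = Nat.card K := by
  have hc := C.coord s hs
  symm
  refine Nat.card_congr (Equiv.ofBijective (fun a : K => (⟨x s a, (hc.mem _).2 ⟨a, rfl⟩⟩ : ↥(X s))) ⟨?_, ?_⟩)
  · intro a b hab
    exact hc.inj (congrArg Subtype.val hab)
  · rintro ⟨y, hy⟩
    obtain ⟨a, rfl⟩ := (hc.mem y).1 hy
    exact ⟨a, rfl⟩

theorem card_inf [Finite K] (C : Coords cs h T n X x χ) {m : ℕ} (hm : Nat.card K ≡ 1 [MOD m]) (S : Set Y)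
    (hS : S ⊆ T) (s : I → ℤ) (hs : IsRoot cs h s) : Nat.card ↥(X s ⊓ Subgroup.centralizer S) ≡ 1 [MOD m] := by
  have hc := C.coord s hs
  by_cases h1 : ∀ t ∈ S, χ s t = 1
  · have h2 : X s ⊓ Subgroup.centralizer S = X s := by
      rw [inf_eq_left]
      intro y hy
      obtain ⟨a, rfl⟩ := (hc.mem y).1 hy
      rw [Subgroup.mem_centralizer_iff]
      intro t ht
      have h3 := hc.act t (hS ht) a
      rw [h1 t ht, one_mul] at h3
      exact mul_inv_eq_iff_eq_mul.1 h3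
    rw [h2, card_X C hs]
    exact hm
  · push Not at h1
    obtain ⟨t, ht, h1⟩ := h1
    have h2 : X s ⊓ Subgroup.centralizer S = ⊥ := by
      rw [Subgroup.eq_bot_iff_forall]
      rintro y ⟨hy, hyc⟩
      obtain ⟨a, rfl⟩ := (hc.mem y).1 hy
      have h3 := hc.act t (hS ht) a
      have h4 := Subgroup.mem_centralizer_iff.1 hyc t ht
      rw [h4, mul_inv_cancel_right] at h3
      have h5 := hc.inj h3
      have h6 : a = 0 := by
        by_contra ha
        exact h1 (mul_right_cancel₀ ha (by rw [← h5, one_mul]))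
      rw [h6, hc.zero]
    rw [h2, Subgroup.card_bot]

theorem chi_one (C : Coords cs h T n X x χ) {s : I → ℤ} (hs : IsRoot cs h s) : χ s (1 : Y) = 1 := by
  have hc := C.coord s hs
  have h1 := hc.chi_mul (one_mem T) (one_mem T)
  rw [mul_one] at h1
  exact (mul_right_cancel₀ (hc.chi_ne_zero (one_mem T)) (by rw [one_mul, ← h1]))

theorem chi_pow (C : Coords cs h T n X x χ) {s : I → ℤ} (hs : IsRoot cs h s) {t : Y} (ht : t ∈ T) (k : ℕ) :
    χ s (t ^ k) = χ s t ^ k := by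
  induction k with
  | zero => rw [pow_zero, pow_zero, chi_one C hs]
  | succ k ih => rw [pow_succ, (C.coord s hs).chi_mul (pow_mem ht k) ht, ih, pow_succ]

theorem chi_inv (C : Coords cs h T n X x χ) {s : I → ℤ} (hs : IsRoot cs h s) {t : Y} (ht : t ∈ T) :
    χ s t⁻¹ = (χ s t)⁻¹ := by
  have h1 := (C.coord s hs).chi_mul (inv_mem ht) ht
  rw [inv_mul_cancel, chi_one C hs] at h1
  exact eq_inv_of_mul_eq_one_left h1.symm

/-! ### the eigenvalue relation -/

theorem sr_symm (σ : Equiv.Perm I) (i : I) : (sr i : I → ℤ) ∘ σ.symm = sr (σ i) := by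
  funext j
  rw [Function.comp_apply]
  by_cases hj : j = σ i
  · rw [hj, σ.symm_apply_apply, sr_self, sr_self]
  · rw [sr_ne hj, sr_ne]
    intro h1
    exact hj (by rw [← h1, σ.apply_symm_apply])

section

variable (R : RGD cs h r T n X)

include R

/-- **The eigenvalue relation.** -/
theorem exists_eig [Finite W] (C : Coords cs h T n X x χ) {β : MulAut Y} {σ : Equiv.Perm I} {τ : K ≃+* K}
    (S : Tau T X χ A β σ τ) {J : Set I} (hJ : ∀ y ∈ PJ cs h T X J, β y ∈ PJ cs h T X J) {g : Y}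
    (hg : g ∈ PJ cs h T X J) {E : Set Y} (hE : E ⊆ T) (hfix : ∀ t ∈ E, β (g * t * g⁻¹) = g * t * g⁻¹) :
    ∃ w ∈ WJ cs J, ∀ t ∈ E, ∀ i, χ (rep cs h w (sr (σ i))) t = τ (χ (sr i) t) := by
  have hc : g⁻¹ * β g ∈ PJ cs h T X J := mul_mem (inv_mem hg) (hJ g hg)
  obtain ⟨w, hw, hcell⟩ := (mem_PJ_iff_cell R).1 hc
  obtain ⟨u, hu, k, hk, v, hv, e⟩ := exists_normal_form R hcell
  refine ⟨w, hw, fun t ht i => ?_⟩
  have htT : t ∈ T := hE ht
  have hβt : β t ∈ T := (S.diag.tor t).2 htT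
  -- `t c = c β t`
  have h1 : t * (g⁻¹ * β g) = g⁻¹ * β g * β t := by
    have h2 := hfix t ht
    rw [map_mul, map_mul, map_inv] at h2
    have h3 : β g * β t = g * t * g⁻¹ * β g := by
      rw [← h2]; group
    calc t * (g⁻¹ * β g) = g⁻¹ * (g * t * g⁻¹ * β g) := by group
      _ = g⁻¹ * (β g * β t) := by rw [h3]
      _ = _ := by group
  rw [e] at h1
  have h2 : (t * u * t⁻¹) * (t * k) * v = u * (k * β t) * ((β t)⁻¹ * v * β t) := by
    calc (t * u * t⁻¹) * (t * k) * v = t * (u * k * v) := by group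
      _ = u * k * v * β t := h1
      _ = _ := by group
  have h3 : t * u * t⁻¹ ∈ RGD.Sup X (RGD.Pos cs h) :=
    (Subgroup.mem_normalizer_iff.1 (R.T_le_normalizer_U htT) u).1 hu
  have h4 : (β t)⁻¹ * v * β t ∈ RGD.Sup X (NW cs h w) := by
    have := (Subgroup.mem_normalizer_iff.1 (R.T_le_normalizer (S := NW cs h w) (fun x hx => hx.1)
      (inv_mem hβt)) v).1 hv
    rwa [inv_inv] at this
  have h5 : Rp cs R.nsys w (t * k) := by
    have := (rp_of_mem (cs := cs) (hN := R.nsys) htT).mul hk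
    rwa [one_mul] at this
  obtain ⟨-, h6, -⟩ := normal_form_unique R h3 hu h5 (hk.mul_mem_right hβt) hv h4 h2
  have h7 : t = k * β t * k⁻¹ := by rw [← h6]; group
  have hroot := isRoot_sr cs h i
  have hroot' := isRoot_sr cs h (σ i)
  have h8 := C.chi_rp R.nsys hk hroot' hβt
  rw [← h7] at h8
  rw [h8, ← sr_symm σ i]
  exact Tau.char_root R C S hroot htT

/-- `WS` as a subgroup -/
theorem exists_subgroup_WS (J : Set I) (S : Set Y) : ∃ D : Subgroup W, (D : Set W) = WS R J S := by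
  refine ⟨{ carrier := WS R J S
            mul_mem' := ?_
            one_mem' := ⟨one_mem _, 1, rp_one, one_mem _⟩
            inv_mem' := ?_ }, rfl⟩
  · rintro a b ⟨ha, k, hk, hkc⟩ ⟨hb, l, hl, hlc⟩
    exact ⟨mul_mem ha hb, k * l, hk.mul hl, mul_mem hkc hlc⟩
  · rintro a ⟨ha, k, hk, hkc⟩
    exact ⟨inv_mem ha, k⁻¹, hk.inv, inv_mem hkc⟩

/-- an element of order `p` of `W_J` centralising `S` -/
theorem exists_fix [Finite W] (C : Coords cs h T n X x χ) {p : ℕ} [Fact p.Prime] {J : Set I} {S : Set Y}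
    (hS : S ⊆ T) (hd : p ∣ Nat.card ↥(WS R J S)) : ∃ v ∈ WJ cs J, v ≠ 1 ∧ v ^ p = 1 ∧
      ∀ t ∈ S, ∀ i, χ (rep cs h v (sr i)) t = χ (sr i) t := by
  obtain ⟨D, hD⟩ := exists_subgroup_WS R J S
  have h1 : p ∣ Nat.card ↥D := by
    have : Nat.card ↥D = Nat.card ↥(WS R J S) := by rw [← hD]; rfl
    rwa [this]
  obtain ⟨⟨v, hv⟩, hv'⟩ := exists_prime_orderOf_dvd_card' p h1
  have hvW : v ∈ WS R J S := by rw [← hD]; exact hv
  have hvo : orderOf v = p := by
    rw [← hv']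
    exact (Subgroup.orderOf_mk v hv).symm
  obtain ⟨hvJ, k, hk, hkc⟩ := hvW
  refine ⟨v, hvJ, ?_, ?_, fun t ht i => ?_⟩
  · rintro rfl
    rw [orderOf_one] at hvo
    exact (Fact.out : p.Prime).one_lt.ne hvo
  · rw [← hvo, pow_orderOf_eq_one]
  · have h2 := C.chi_rp R.nsys hk (isRoot_sr cs h i) (hS ht)
    have h3 := Subgroup.mem_centralizer_iff.1 hkc t ht
    rw [← h3, mul_inv_cancel_right] at h2
    exact h2

end

/-! ### logarithms -/

section Log

variable {p : ℕ} [Fact p.Prime]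

theorem exists_zeta [Finite K] (hp : p ∣ Nat.card K - 1) : ∃ ζ : K, IsPrimitiveRoot ζ p := by
  have h1 : Nat.card Kˣ = Nat.card K - 1 := Nat.card_units K
  obtain ⟨g, hg⟩ := IsCyclic.exists_generator (α := Kˣ)
  obtain ⟨m, hm⟩ := hp
  have h2 : IsPrimitiveRoot g (Nat.card Kˣ) := by
    have := IsPrimitiveRoot.orderOf g
    rwa [orderOf_eq_card_of_forall_mem_zpowers hg] at this
  have h3 : IsPrimitiveRoot (g ^ m) p := by
    refine h2.pow Nat.card_pos ?_
    rw [h1, hm, mul_comm]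
  exact ⟨((g ^ m : Kˣ) : K), IsPrimitiveRoot.coe_units_iff.2 h3⟩

theorem exists_log {ζ : K} (hζ : IsPrimitiveRoot ζ p) {z : K} (hz : z ^ p = 1) :
    ∃ a : ZMod p, ζ ^ a.val = z := by
  have hp : p.Prime := Fact.out
  have : NeZero p := ⟨hp.ne_zero⟩
  obtain ⟨i, hi, e⟩ := hζ.eq_pow_of_pow_eq_one hz
  refine ⟨(i : ZMod p), ?_⟩
  rw [ZMod.val_natCast, Nat.mod_eq_of_lt hi, e]

/-- Additive form of a multiplicative relation. -/
theorem log_rel {ζ : K} (hζ : IsPrimitiveRoot ζ p) {z : I → K} {a : I → ZMod p} (ha : ∀ i, ζ ^ (a i).val = z i)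
    (c : I → ℤ) {q : ℕ} {i : I} (e : ∏ j, z j ^ c j = z i ^ q) : ∑ j, (c j : ZMod p) * a j = (q : ZMod p) * a i := by
  have hp : p.Prime := Fact.out
  have : NeZero p := ⟨hp.ne_zero⟩
  have hζ0 : ζ ≠ 0 := hζ.ne_zero hp.ne_zero
  have h1 : ∏ j, z j ^ c j = ζ ^ (∑ j, ((a j).val : ℤ) * c j) := by
    have h2 : ∀ s : Finset I, ∏ j ∈ s, z j ^ c j = ζ ^ (∑ j ∈ s, ((a j).val : ℤ) * c j) := by
      intro s
      induction s using Finset.induction_on with
      | empty => simp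
      | insert b s hb ih =>
        rw [Finset.prod_insert hb, Finset.sum_insert hb, ih, zpow_add₀ hζ0, ← ha b, zpow_mul, zpow_natCast]
    exact h2 _
  have h2 : z i ^ q = ζ ^ (((a i).val * q : ℕ) : ℤ) := by
    rw [zpow_natCast, pow_mul, ha]
  rw [h1, h2] at e
  have h3 : ζ ^ (∑ j, ((a j).val : ℤ) * c j - (((a i).val * q : ℕ) : ℤ)) = 1 := by
    rw [zpow_sub₀ hζ0, e]
    exact div_self (zpow_ne_zero _ hζ0)
  have h4 := (hζ.zpow_eq_one_iff_dvd _).1 h3
  have h5 : ((∑ j, ((a j).val : ℤ) * c j - (((a i).val * q : ℕ) : ℤ) : ℤ) : ZMod p) = 0 :=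
    (ZMod.intCast_zmod_eq_zero_iff_dvd _ _).2 h4
  rw [Int.cast_sub, Int.cast_sum, sub_eq_zero] at h5
  have h6 : ∀ j, ((((a j).val : ℤ) * c j : ℤ) : ZMod p) = (c j : ZMod p) * a j := by
    intro j
    rw [Int.cast_mul, Int.cast_natCast, ZMod.natCast_zmod_val, mul_comm]
  rw [Finset.sum_congr rfl fun j _ => h6 j] at h5
  rw [h5, Int.cast_natCast, Nat.cast_mul, ZMod.natCast_zmod_val, mul_comm]

end Log

section Main

variable {p : ℕ} [Fact p.Prime]

/-- The set of logarithms of a subgroup of exponent `p` of `T`. -/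
theorem exists_logset [Finite K] (C : Coords cs h T n X x χ) (hfaith : ∀ t ∈ T, (∀ i, χ (sr i) t = 1) → t = 1)
    (hmul : ∀ s, IsRoot cs h s → ∀ t ∈ T, χ s t = ∏ i, χ (sr i) t ^ s i)
    (hp : p ∣ Nat.card K - 1) {E : Subgroup Y} (hE : E ≤ T) (hexp : ∀ t ∈ E, t ^ p = 1) :
    ∃ S : Set (I → ZMod p), Nat.card ↥S = Nat.card ↥E ∧
      ∀ (s : I → (I → ℤ)) (q : ℕ), (∀ i, IsRoot cs h (s i)) → (∀ t ∈ E, ∀ i, χ (s i) t = χ (sr i) t ^ q) →
        ∀ a ∈ S, ∀ i, ∑ j, ((s i j : ℤ) : ZMod p) * a j = (q : ZMod p) * a i := by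
  obtain ⟨ζ, hζ⟩ := exists_zeta (p := p) (K := K) hp
  have h1 : ∀ (t : ↥E) (i : I), ∃ a : ZMod p, ζ ^ a.val = χ (sr i) t := by
    intro t i
    apply exists_log hζ
    rw [← chi_pow C (isRoot_sr cs h i) (hE t.2), hexp t t.2, chi_one C (isRoot_sr cs h i)]
  choose f hf using h1
  refine ⟨Set.range f, ?_, ?_⟩
  · refine Nat.card_congr (Equiv.ofInjective f ?_).symm
    intro t t' htt
    have h2 : ∀ i, χ (sr i) (t : Y) = χ (sr i) (t' : Y) := by
      intro i
      rw [← hf, ← hf, htt]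
    have h3 : (t : Y) * (t' : Y)⁻¹ = 1 := by
      refine hfaith _ (mul_mem (hE t.2) (inv_mem (hE t'.2))) fun i => ?_
      rw [(C.coord _ (isRoot_sr cs h i)).chi_mul (hE t.2) (inv_mem (hE t'.2)), chi_inv C (isRoot_sr cs h i) (hE t'.2),
        h2 i, mul_inv_cancel₀ ((C.coord _ (isRoot_sr cs h i)).chi_ne_zero (hE t'.2))]
    exact Subtype.ext (mul_inv_eq_one.1 h3)
  · rintro s q hs hq _ ⟨t, rfl⟩ i
    refine log_rel hζ (z := fun j => χ (sr j) t) (hf t) (s i) ?_
    rw [← hmul _ (hs i) _ (hE t.2)]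
    exact hq t t.2 i

variable (R : RGD cs h r T n X)

include R

/-- **No group of order `p⁴` and exponent `p` in `P_J` is fixed by `β`.** -/
theorem not_four [Finite W] [Finite Y] [Finite K] [Fact r.Prime] (hpr : p ≠ r) (hQ : p ^ 2 ∣ Nat.card K - 1)
    (C : Coords cs h T n X x χ) (hTab : ∀ s ∈ T, ∀ t ∈ T, s * t = t * s)
    (hfaith : ∀ t ∈ T, (∀ i, χ (sr i) t = 1) → t = 1)
    (hmul : ∀ s, IsRoot cs h s → ∀ t ∈ T, χ s t = ∏ i, χ (sr i) t ^ s i)
    {β : MulAut Y} {σ : Equiv.Perm I} {τ : K ≃+* K} (S : Tau T X χ A β σ τ) {q : ℕ} (hτ : ∀ a, τ a = a ^ q)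
    {J : Set I} (hJ : ∀ y ∈ PJ cs h T X J, β y ∈ PJ cs h T X J)
    (hW : ¬ p ^ 2 ∣ Nat.card ↥(WJ cs J))
    (hA : ∀ w ∈ WJ cs J, ∀ S : Set (I → ZMod p),
      (∀ a ∈ S, ∀ i, ∑ j, ((rep cs h w (sr (σ i)) j : ℤ) : ZMod p) * a j = (q : ZMod p) * a i) →
      Nat.card ↥S ≤ p ^ 3)
    (hB : ∀ w ∈ WJ cs J, ∀ S : Set (I → ZMod p),
      (∀ a ∈ S, ∀ i, ∑ j, ((rep cs h w (sr (σ i)) j : ℤ) : ZMod p) * a j = (q : ZMod p) * a i) →
      p ^ 3 ≤ Nat.card ↥S → ∀ v ∈ WJ cs J, v ^ p = 1 →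
      (∀ a ∈ S, ∀ i, ∑ j, ((rep cs h v (sr i) j : ℤ) : ZMod p) * a j = a i) → v = 1)
    {E : Subgroup Y} (hE : E ≤ PJ cs h T X J) (hEab : ∀ a ∈ E, ∀ b ∈ E, a * b = b * a)
    (hexp : ∀ t ∈ E, t ^ p = 1) (hcard : Nat.card ↥E = p ^ 4) (hfix : ∀ e ∈ E, β e = e) : False := by
  have hp : p.Prime := Fact.out
  have hEp : IsPGroup p ↥E := by
    rw [IsPGroup.iff_card]; exact ⟨4, hcard⟩
  have hpQ : p ∣ Nat.card K - 1 := dvd_trans (dvd_pow_self p two_ne_zero) hQ
  have hKpos : 1 ≤ Nat.card K := Nat.card_pos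
  have hmod : ∀ k, k ≤ 2 → Nat.card K ≡ 1 [MOD p ^ k] := by
    intro k hk
    exact ((Nat.modEq_iff_dvd' hKpos).2 (dvd_trans (pow_dvd_pow p hk) hQ)).symm
  have hrel : ∀ {g : Y} {A' : Subgroup Y}, g ∈ PJ cs h T X J → A' ≤ T → cj g A' ≤ E →
      ∃ w ∈ WJ cs J, ∀ t ∈ A', ∀ i, χ (rep cs h w (sr (σ i))) t = χ (sr i) t ^ q := by
    intro g A' hg hA' hgA
    obtain ⟨w, hw, h1⟩ := exists_eig R C S hJ hg (E := (A' : Set Y)) hA' fun t ht => hfix _ (hgA (conj_mem_cj.2 ht))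
    exact ⟨w, hw, fun t ht i => by rw [h1 t ht i, hτ]⟩
  -- no toral subgroup of order `p⁴`
  have hnot : ∀ {g : Y}, g ∈ PJ cs h T X J → ¬ E ≤ cj g T := by
    intro g hg hEg
    have h1 : cj g⁻¹ E ≤ T := by
      have := cj_mono g⁻¹ hEg
      rwa [cj_inv_cj] at this
    obtain ⟨w, hw, h2⟩ := hrel hg h1 (by rw [cj_cj_inv])
    have hexp' : ∀ t ∈ cj g⁻¹ E, t ^ p = 1 := by
      intro t ht
      rw [mem_cj, inv_inv] at ht
      have h3 := hexp _ ht
      have h4 : (g * t * g⁻¹) ^ p = g * t ^ p * g⁻¹ := conj_pow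
      rw [h4] at h3
      have h5 : t ^ p = g⁻¹ * (g * t ^ p * g⁻¹) * g := by group
      rw [h5, h3]; group
    obtain ⟨L, hL1, hL2⟩ := exists_logset C hfaith hmul hpQ h1 hexp'
    have h3 := hA w hw L (hL2 (fun i => rep cs h w (sr (σ i))) q (fun i => (isRoot_sr cs h (σ i)).act w) h2)
    rw [hL1] at h3
    have h4 : Nat.card ↥(cj g⁻¹ E) = p ^ 4 := by
      rw [← hcard]
      exact Subgroup.card_map_of_injective (MulAut.conj g⁻¹).injective
    rw [h4] at h3
    exact absurd ((Nat.pow_le_pow_iff_right hp.one_lt).1 h3) (by norm_num)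
  -- first conjugation
  have hWS : Nat.card ↥(WS R J (∅ : Set Y)) = Nat.card ↥(WJ cs J) := by
    have : WS R J (∅ : Set Y) = (WJ cs J : Set W) := by
      ext w
      constructor
      · exact fun hw => hw.1
      · intro hw
        obtain ⟨k, hk⟩ := exists_rp cs R.nsys w
        exact ⟨hw, k, hk, Subgroup.mem_centralizer_iff.2 fun s hs => absurd hs (Set.notMem_empty s)⟩
    rw [this]; rfl
  obtain ⟨g, hg, hgr⟩ := exists_toral (k := 1) R hpr (fun S hS x hx => card_inf C (hmod 2 le_rfl) S hS x hx)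
    (J := J) (S := (∅ : Set Y)) (Set.empty_subset _)
    (fun t _ => Subgroup.mem_centralizer_iff.2 fun s hs => absurd hs (Set.notMem_empty s))
    (by rw [hWS]; exact hW) hEp
    (le_inf hE fun t _ => Subgroup.mem_centralizer_iff.2 fun s hs => absurd hs (Set.notMem_empty s))
  have hg' := (Subgroup.mem_inf.1 hg).1
  rw [pow_one] at hgr
  -- the toral part
  set E0 : Subgroup Y := cj g T ⊓ E with hE0
  have hE0card : p ^ 3 ≤ Nat.card ↥E0 := by
    have h1 : Nat.card ↥E0 * (cj g T).relIndex E = Nat.card ↥E := by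
      have h2 := Subgroup.relIndex_mul_relIndex (⊥ : Subgroup Y) E0 E bot_le inf_le_right
      rwa [Subgroup.relIndex_bot_left, Subgroup.relIndex_bot_left, Subgroup.inf_relIndex_right] at h2
    rw [hcard] at h1
    by_contra hlt
    push Not at hlt
    have h2 : Nat.card ↥E0 * (cj g T).relIndex E ≤ Nat.card ↥E0 * p := Nat.mul_le_mul_left _ hgr
    have h3 : Nat.card ↥E0 * p < p ^ 3 * p := Nat.mul_lt_mul_of_pos_right hlt hp.pos
    have h4 : p ^ 4 = p ^ 3 * p := pow_succ p 3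
    omega
  set A0 : Subgroup Y := cj g⁻¹ E0 with hA0
  have hA0T : A0 ≤ T := by
    have h1 : cj g⁻¹ E0 ≤ cj g⁻¹ (cj g T) := cj_mono g⁻¹ inf_le_left
    rwa [cj_inv_cj] at h1
  have hA0card : p ^ 3 ≤ Nat.card ↥A0 := by
    refine le_trans hE0card (le_of_eq ?_)
    exact (Subgroup.card_map_of_injective (MulAut.conj g⁻¹).injective).symm
  have hA0E : cj g A0 ≤ E := by
    rw [hA0, cj_cj_inv]; exact inf_le_right
  set E1 : Subgroup Y := cj g⁻¹ E with hE1
  have hA0E1 : A0 ≤ E1 := cj_mono g⁻¹ inf_le_right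
  have hE1p : IsPGroup p ↥E1 := hEp.map _
  have hconjE : ∀ {t : Y}, t ∈ E1 → g * t * g⁻¹ ∈ E := by
    intro t ht
    rw [hE1, mem_cj, inv_inv] at ht
    exact ht
  have hE1ab : ∀ a ∈ E1, ∀ b ∈ E1, a * b = b * a := by
    intro a ha b hb
    have h1 := hEab _ (hconjE ha) _ (hconjE hb)
    have e1 : a * b = g⁻¹ * (g * a * g⁻¹ * (g * b * g⁻¹)) * g := by group
    have e2 : b * a = g⁻¹ * (g * b * g⁻¹ * (g * a * g⁻¹)) * g := by group
    rw [e1, e2, h1]
  have hE1P : E1 ≤ PJ cs h T X J ⊓ Subgroup.centralizer (A0 : Set Y) := by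
    intro t ht
    rw [Subgroup.mem_inf]
    refine ⟨?_, Subgroup.mem_centralizer_iff.2 fun s hs => hE1ab s (hA0E1 hs) t ht⟩
    have h1 := hE (hconjE ht)
    have e : t = g⁻¹ * (g * t * g⁻¹) * g := by group
    rw [e]
    exact mul_mem (mul_mem (inv_mem hg') h1) hg'
  have hTA : T ≤ Subgroup.centralizer (A0 : Set Y) := fun t ht =>
    Subgroup.mem_centralizer_iff.2 fun s hs => hTab s (hA0T hs) t ht
  by_cases hd : p ∣ Nat.card ↥(WS R J (A0 : Set Y))
  · -- an element of order `p` of `W_J` centralises `A0`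
    obtain ⟨v, hvJ, hv1, hvp, hvfix⟩ := exists_fix R C hA0T hd
    apply hv1
    obtain ⟨w, hw, h2⟩ := hrel hg' hA0T hA0E
    have hexp' : ∀ t ∈ A0, t ^ p = 1 := by
      intro t ht
      have h3 := hexp _ (hconjE (hA0E1 ht))
      have h4 : (g * t * g⁻¹) ^ p = g * t ^ p * g⁻¹ := conj_pow
      rw [h4] at h3
      have h5 : t ^ p = g⁻¹ * (g * t ^ p * g⁻¹) * g := by group
      rw [h5, h3]; group
    obtain ⟨L, hL1, hL2⟩ := exists_logset C hfaith hmul hpQ hA0T hexp'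
    refine hB w hw L (hL2 (fun i => rep cs h w (sr (σ i))) q (fun i => (isRoot_sr cs h (σ i)).act w) h2)
      (by rw [hL1]; exact hA0card) v hvJ hvp ?_
    intro a ha i
    have h3 := hL2 (fun i => rep cs h v (sr i)) 1 (fun i => (isRoot_sr cs h i).act v)
      (fun t ht i => by rw [pow_one]; exact hvfix t ht i) a ha i
    rw [Nat.cast_one, one_mul] at h3
    exact h3
  · -- `E` is toral
    obtain ⟨g2, hg2, hr2⟩ := exists_toral (k := 0) R hpr
      (fun S hS x hx => card_inf C (hmod 1 (by norm_num)) S hS x hx)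
      (J := J) (S := (A0 : Set Y)) hA0T hTA (by rwa [zero_add, pow_one]) hE1p hE1P
    rw [pow_zero] at hr2
    have h1 : (cj g2 T).relIndex E1 = 1 := by
      have h2 : (cj g2 T).relIndex E1 ≠ 0 := by
        intro h0
        have h1 := Subgroup.relIndex_dvd_card (cj g2 T) E1
        rw [h0, Nat.zero_dvd] at h1
        exact (Nat.card_pos (α := ↥E1)).ne' h1
      omega
    rw [Subgroup.relIndex_eq_one] at h1
    refine hnot (g := g * g2) (mul_mem hg' (Subgroup.mem_inf.1 hg2).1) ?_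
    rw [cj_mul]
    have h2 := cj_mono g h1
    rwa [hE1, cj_cj_inv] at h2

end Main

end Cfsg.Agent.PRankPar.Frob

end

-- merged: Cfsg.Agent.PRankPar.Chev
section

/-!
# Chevalley groups: torus, field maps, Frobenius

For a tabulated datum `D` of type `hp : IsType D l M`:
* `exists_c` : the elements of the torus are `diag(1; ∏ c_i ^ A_{i,s})`, `T_comm`, `ch_prod`, `faithful`;
* `emb f : D.group F →* D.group K` for `f : F →+* K`, `emb_PJ`;
* `fieldAut τ : MulAut (D.group K)`, `tau_field : Tau .. (fieldAut τ) 1 τ`.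
-/

set_option autoImplicit false
set_option linter.unusedSectionVars false

namespace Cfsg.Agent.PRankPar.Chev

open CoxeterSystem Cfsg.Agent.ChevalleyStructure.CoxeterGeom Cfsg.Agent.Tits.Roots Cfsg.Agent.Tits.Core
  Cfsg.Agent.Nodes.Reps Cfsg.Agent.Nodes.BNOf Cfsg.Agent.Nodes.Bruhat Cfsg.Agent.Nodes.LeviDec
  Cfsg.Agent.Nodes.StabComb Cfsg.Agent.Nodes.RGDChev
  Cfsg.Agent.KFacts.RgdAut Cfsg.Agent.KFacts.RgdDiag Cfsg.Agent.KFacts.RgdField Cfsg.Agent.KFacts.RgdTau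
  Cfsg.Agent.KFacts.RgdChevCoord Cfsg.Agent.KFacts
open Cfsg.Lie Cfsg.Agent.ChevalleyStructure Cfsg.Agent.ChevalleyStructure.Elts
  Cfsg.Agent.ChevalleyStructure.TorusRange
  Cfsg.Agent.ChevalleyStructure.NPerm Cfsg.Agent.ChevalleyStructure.CoxeterGeomTypes

universe u v

section

variable {D : ChevalleyDatum} {l : ℕ} {M : CoxeterMatrix (Fin l)} (hp : IsType D l M) {K : Type u} [Field K]
  {W : Type*} [Group W] (cs : CoxeterSystem M W)

include hp in
theorem simpleDiag : SimpleDiag D K := by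
  intro i hi c hc
  have hG := RootComb.good_of_mem hp.inList
  have h := StringMem.hMat_eq hp.inList (F := K) (hG.simple_lt hi) hc
  simpa only [StringMem.cartanR_simple hp.inList hi] using h

include hp in
theorem allDiag : AllDiag D K := by
  intro r hr c hc
  exact StringMem.hMat_eq hp.inList hr hc

include cs in
theorem ch_mul [Finite K] (p : ℕ) [Fact p.Prime] [CharP K p] {r : ℕ} (hr : r < D.nroots) {s t : ↥(D.group K)}
    (hs : s ∈ TT D K) (ht : t ∈ TT D K) :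
    ch hp (vec D l r) (s * t) = ch hp (vec D l r) s * ch hp (vec D l r) t :=
  ((coords hp cs p).coord _ (isRoot_vec hp cs hr)).chi_mul hs ht

include cs in
theorem ch_one [Finite K] (p : ℕ) [Fact p.Prime] [CharP K p] {r : ℕ} (hr : r < D.nroots) :
    ch hp (vec D l r) (1 : ↥(D.group K)) = 1 :=
  Frob.chi_one (coords hp cs p) (isRoot_vec hp cs hr)

include cs in
/-- the products of the `h_i(c_i)` -/
theorem exists_prod [Finite K] (p : ℕ) [Fact p.Prime] [CharP K p] (c : ℕ → K) (hc : ∀ i < D.rank, c i ≠ 0)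
    (n : ℕ) (hn : n ≤ D.rank) : ∃ t ∈ TT D K,
      ((t : GL D.Idx K) : Matrix D.Idx D.Idx K) =
        D.wordMat K ((List.range n).flatMap fun i => D.hWord (D.simple i) (c i)) ∧
      ∀ s < D.nroots, ch hp (vec D l s) t = ∏ i ∈ Finset.range n, c i ^ D.cartan i s := by
  induction n with
  | zero =>
    refine ⟨1, one_mem _, ?_, fun s hs => ?_⟩
    · rw [List.range_zero, List.flatMap_nil, wordMat_nil]; rfl
    · rw [Finset.range_zero, Finset.prod_empty, ch_one hp cs p hs]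
  | succ n ih =>
    obtain ⟨t, ht, e, h1⟩ := ih (by omega)
    have hn' : n < l := by rw [← hp.rank_eq]; omega
    have hcn : c n ≠ 0 := hc n (by omega)
    have hm : RgdChevCoord.hc hp ⟨n, hn'⟩ (c n) ∈ TT D K := hc_mem hp ⟨n, hn'⟩ hcn
    refine ⟨t * RgdChevCoord.hc hp ⟨n, hn'⟩ (c n), mul_mem ht hm, ?_, fun s hs => ?_⟩
    · rw [Subgroup.coe_mul, Units.val_mul, e, List.range_succ, List.flatMap_append, wordMat_append,
        List.flatMap_cons, List.flatMap_nil, List.append_nil]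
      congr 1
    · rw [ch_mul hp cs p hs ht hm, h1 s hs, Finset.prod_range_succ, ch_hc hp ⟨n, hn'⟩ hcn hs]

include cs in
/-- **The elements of the torus.** -/
theorem exists_c [Finite K] (p : ℕ) [Fact p.Prime] [CharP K p] {t : ↥(D.group K)} (ht : t ∈ TT D K) :
    ∃ c : ℕ → K, (∀ i < D.rank, c i ≠ 0) ∧
      ((t : GL D.Idx K) : Matrix D.Idx D.Idx K) = Matrix.diagonal (Sum.elim (fun _ => (1 : K))
        (fun s : Fin D.nroots => ∏ i ∈ Finset.range D.rank, c i ^ D.cartan i s)) ∧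
      ∀ s < D.nroots, ch hp (vec D l s) t = ∏ i ∈ Finset.range D.rank, c i ^ D.cartan i s := by
  obtain ⟨c, hc, e⟩ := _root_.Cfsg.Agent.ChevalleyStructure.TorusRange.exists_word (simpleDiag hp) (allDiag hp) (t : GL D.Idx K) ht
  obtain ⟨t', ht', e', h1⟩ := exists_prod hp cs p c hc D.rank le_rfl
  have h2 : t' = t := Subtype.ext (Units.ext (by rw [e', e]))
  subst h2
  exact ⟨c, hc, by rw [e', wordMat_flatMap_range (simpleDiag hp) c hc D.rank le_rfl], h1⟩

include hp cs in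
theorem T_comm [Finite K] (p : ℕ) [Fact p.Prime] [CharP K p] (s : ↥(D.group K)) (hs : s ∈ TT D K)
    (t : ↥(D.group K)) (ht : t ∈ TT D K) : s * t = t * s := by
  obtain ⟨c, -, e, -⟩ := exists_c hp cs p hs
  obtain ⟨d, -, e', -⟩ := exists_c hp cs p ht
  apply Subtype.ext
  apply Units.ext
  rw [Subgroup.coe_mul, Subgroup.coe_mul, Units.val_mul, Units.val_mul, e, e', Matrix.diagonal_mul_diagonal,
    Matrix.diagonal_mul_diagonal]
  congr 1
  funext i
  exact mul_comm _ _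

include cs in
/-- the scalars of all roots in terms of the simple roots -/
theorem ch_prod [Finite K] (p : ℕ) [Fact p.Prime] [CharP K p] (x : Fin l → ℤ) (hx : IsRoot cs hp.isCartan x)
    (t : ↥(D.group K)) (ht : t ∈ TT D K) : ch hp x t = ∏ i, ch hp (sr i) t ^ x i := by
  obtain ⟨r, hr, rfl⟩ := (isRoot_iff hp cs x).1 hx
  obtain ⟨c, hc, -, h1⟩ := exists_c hp cs p ht
  have h2 : ∀ i : Fin l, ch hp (sr i) t = ∏ j ∈ Finset.range D.rank, c j ^ D.cartan j (D.simple i) := by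
    intro i
    rw [← vec_simple hp i]
    exact h1 _ (simple_lt hp.inList (lt_rank hp i))
  rw [h1 r hr]
  have h3 : ∀ i : Fin l, ch hp (sr i) t ^ vec D l r i =
      ∏ j ∈ Finset.range D.rank, c j ^ (D.cartan j (D.simple i) * vec D l r i) := by
    intro i
    rw [h2 i, ← Finset.prod_zpow]
    exact Finset.prod_congr rfl fun j _ => (zpow_mul _ _ _).symm
  rw [Finset.prod_congr rfl fun i _ => h3 i, Finset.prod_comm]
  refine Finset.prod_congr rfl fun j hj => ?_
  have hj' : j < D.rank := Finset.mem_range.1 hj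
  have hjl : j < l := by rw [← hp.rank_eq]; exact hj'
  have h4 : ∏ i : Fin l, c j ^ (D.cartan j (D.simple i) * vec D l r i) =
      c j ^ ∑ i : Fin l, D.cartan j (D.simple i) * vec D l r i := by
    have h5 : ∀ s : Finset (Fin l), ∏ i ∈ s, c j ^ (D.cartan j (D.simple i) * vec D l r i) =
        c j ^ ∑ i ∈ s, D.cartan j (D.simple i) * vec D l r i := by
      intro s
      induction s using Finset.induction_on with
      | empty => simp
      | insert b s hb ih => rw [Finset.prod_insert hb, Finset.sum_insert hb, ih, zpow_add₀ (hc j hj')]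
    exact h5 _
  rw [h4]
  congr 1
  have h6 := pairing_vec hp ⟨j, hjl⟩ hr
  rw [← h6]
  unfold CoxeterGeom.pairing
  refine Finset.sum_congr rfl fun i _ => ?_
  rw [cartanOf_def]

include cs in
theorem faithful [Finite K] (p : ℕ) [Fact p.Prime] [CharP K p] (t : ↥(D.group K)) (ht : t ∈ TT D K)
    (h1 : ∀ i, ch hp (sr i) t = 1) : t = 1 := by
  have h2 : ∀ s < D.nroots, ch hp (vec D l s) t = 1 := by
    intro s hs
    rw [ch_prod hp cs p _ (isRoot_vec hp cs hs) t ht]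
    exact Finset.prod_eq_one fun i _ => by rw [h1 i, one_zpow]
  obtain ⟨c, -, e, h3⟩ := exists_c hp cs p ht
  apply Subtype.ext
  apply Units.ext
  rw [e]
  show _ = (1 : Matrix D.Idx D.Idx K)
  rw [← Matrix.diagonal_one]
  congr 1
  funext i
  rcases i with i | s
  · rfl
  · show ∏ i ∈ Finset.range D.rank, c i ^ D.cartan i s = 1
    rw [← h3 s s.2, h2 s s.2]

end

/-! ### field maps -/

section Emb

variable {D : ChevalleyDatum} {F : Type v} {K : Type u} [Field F] [Field K]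

theorem xMat_map (D : ChevalleyDatum) (f : F →+* K) (r : Fin D.nroots) (t : F) :
    (D.xMat F r t).map f = D.xMat K r (f t) := by
  ext row col
  rcases row with i' | u <;> rcases col with i | s
  · show f (if i' = i then 1 else 0) = (if i' = i then 1 else 0)
    split <;> simp
  · simp only [Matrix.map_apply, ChevalleyDatum.xMat, Matrix.of_apply]
    split_ifs <;> simp only [_root_.map_zero, _root_.Array.getD_eq_getD_getElem?, _root_.map_mul, _root_.map_intCast]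
  · simp only [Matrix.map_apply, ChevalleyDatum.xMat, Matrix.of_apply]
    split_ifs <;> simp only [_root_.Array.getD_eq_getD_getElem?, _root_.neg_mul, _root_.map_neg, _root_.map_mul, _root_.map_intCast, _root_.map_zero]
  · simp only [Matrix.map_apply, ChevalleyDatum.xMat, Matrix.of_apply]
    split_ifs <;> simp only [map_list_sum, Function.comp_def, _root_.map_one, _root_.map_zero, _root_.map_neg, _root_.map_pow, _root_.map_add, _root_.List.map_map, _root_.map_mul, _root_.map_intCast, _root_.zero_add]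

theorem x_map (D : ChevalleyDatum) (f : F →+* K) (r : ℕ) (t : F) :
    (D.x F r t).map f = D.x K r (f t) := by
  unfold ChevalleyDatum.x
  split_ifs with h
  · exact xMat_map D f ⟨r, h⟩ t
  · exact Matrix.map_one f (map_zero f) (map_one f)

theorem wordMat_map (D : ChevalleyDatum) (f : F →+* K) (w : List (ℕ × F)) :
    (D.wordMat F w).map f = D.wordMat K (w.map fun p => (p.1, f p.2)) := by
  unfold ChevalleyDatum.wordMat
  induction w with
  | nil => exact Matrix.map_one f (map_zero f) (map_one f)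
  | cons p w ih =>
    simp only [List.map_cons, List.prod_cons]
    rw [Matrix.map_mul, x_map, ih]

/-- the map of general linear groups -/
def glMap (D : ChevalleyDatum) (f : F →+* K) : GL D.Idx F →* GL D.Idx K :=
  Units.map (RingHom.mapMatrix f : Matrix D.Idx D.Idx F →+* Matrix D.Idx D.Idx K).toMonoidHom

theorem coe_glMap (D : ChevalleyDatum) (f : F →+* K) (g : GL D.Idx F) :
    ((glMap D f g : GL D.Idx K) : Matrix D.Idx D.Idx K) = (g : Matrix D.Idx D.Idx F).map f := rfl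

theorem glMap_xG (hD : InList D) (f : F →+* K) (r : ℕ) (t : F) : glMap D f (xG hD r t) = xG hD r (f t) := by
  apply Units.ext
  rw [coe_glMap, coe_xG, coe_xG, x_map]

theorem glMap_mem (hD : InList D) (f : F →+* K) {g : GL D.Idx F} (hg : g ∈ D.group F) : glMap D f g ∈ D.group K := by
  have h1 : D.group F ≤ (D.group K).comap (glMap D f) := by
    rw [group_le_iff hD]
    intro r _ t
    show glMap D f (xG hD r t) ∈ D.group K
    rw [glMap_xG]
    exact xG_mem_group hD r _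
  exact h1 hg

theorem glMap_diagonal (f : F →+* K) {g : GL D.Idx F} (hg : g ∈ D.diagonalSubgroup F) :
    glMap D f g ∈ D.diagonalSubgroup K := by
  have h1 : D.diagonalSubgroup F ≤ (D.diagonalSubgroup K).comap (glMap D f) := by
    refine (Subgroup.closure_le _).2 ?_
    rintro g ⟨r, t, hr, ht, e⟩
    refine Subgroup.subset_closure ⟨r, f t, hr, (map_ne_zero f).2 ht, ?_⟩
    rw [coe_glMap, e]
    show (D.wordMat F (D.hWord r t)).map f = D.wordMat K (D.hWord r (f t))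
    rw [wordMat_map]
    congr 1
    simp [ChevalleyDatum.hWord, ChevalleyDatum.nWord, map_inv₀, map_neg]
  exact h1 hg

/-- the map of Chevalley groups given by a field homomorphism -/
def emb (hD : InList D) (f : F →+* K) : ↥(D.group F) →* ↥(D.group K) :=
  ((glMap D f).comp (D.group F).subtype).codRestrict (D.group K) fun g => glMap_mem hD f g.2

theorem coe_emb (hD : InList D) (f : F →+* K) (g : ↥(D.group F)) :
    ((emb hD f g : ↥(D.group K)) : GL D.Idx K) = glMap D f g := rfl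

theorem emb_injective (hD : InList D) (f : F →+* K) : Function.Injective (emb hD f) := by
  intro a b hab
  apply Subtype.ext
  apply Units.ext
  have h1 := congrArg (fun g : ↥(D.group K) => ((g : GL D.Idx K) : Matrix D.Idx D.Idx K)) hab
  simp only [coe_emb, coe_glMap] at h1
  ext i j
  exact f.injective (congrFun (congrFun h1 i) j)

theorem emb_comp (hD : InList D) {L : Type*} [Field L] (g : K →+* L) (f : F →+* K) (y : ↥(D.group F)) :
    emb hD g (emb hD f y) = emb hD (g.comp f) y := by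
  apply Subtype.ext
  apply Units.ext
  ext i j
  rfl

theorem emb_id (hD : InList D) (y : ↥(D.group K)) : emb hD (RingHom.id K) y = y := by
  apply Subtype.ext
  apply Units.ext
  ext i j
  rfl

/-- the automorphism given by a field automorphism -/
def fieldAut (hD : InList D) (τ : K ≃+* K) : MulAut ↥(D.group K) where
  toFun := emb hD (τ : K →+* K)
  invFun := emb hD (τ.symm : K →+* K)
  left_inv y := by
    rw [emb_comp]
    have : ((τ.symm : K →+* K).comp (τ : K →+* K)) = RingHom.id K := by ext a; simp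
    rw [this, emb_id]
  right_inv y := by
    rw [emb_comp]
    have : ((τ : K →+* K).comp (τ.symm : K →+* K)) = RingHom.id K := by ext a; simp
    rw [this, emb_id]
  map_mul' := map_mul _

theorem fieldAut_apply (hD : InList D) (τ : K ≃+* K) (y : ↥(D.group K)) :
    fieldAut hD τ y = emb hD (τ : K →+* K) y := rfl

theorem fieldAut_emb (hD : InList D) {τ : K ≃+* K} {f : F →+* K} (hf : ∀ a, τ (f a) = f a) (y : ↥(D.group F)) :
    fieldAut hD τ (emb hD f y) = emb hD f y := by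
  rw [fieldAut_apply, emb_comp]
  congr 2
  ext a
  exact hf a

variable {l : ℕ} {M : CoxeterMatrix (Fin l)} (hp : IsType D l M) {W : Type*} [Group W] (cs : CoxeterSystem M W)

include hp in
theorem emb_xc (f : F →+* K) {r : ℕ} (hr : r < D.nroots) (a : F) :
    emb hp.inList f (xc hp (vec D l r) a) = xc hp (vec D l r) (f a) := by
  apply Subtype.ext
  rw [coe_emb, coe_xc hp hr, coe_xc hp hr, glMap_xG]

theorem emb_TT (f : F →+* K) (hD : InList D) {t : ↥(D.group F)} (ht : t ∈ TT D F) : emb hD f t ∈ TT D K :=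
  glMap_diagonal f ht

include hp cs in
theorem emb_XX (f : F →+* K) {x : Fin l → ℤ} (hx : IsRoot cs hp.isCartan x) {y : ↥(D.group F)} (hy : y ∈ XX D l F x) :
    emb hp.inList f y ∈ XX D l K x := by
  obtain ⟨r, hr, rfl⟩ := (isRoot_iff hp cs x).1 hx
  rw [Subgroup.mem_subgroupOf, XV_vec hp _ hr, mem_rootSubgroup_iff hp.inList] at hy ⊢
  obtain ⟨t, ht⟩ := hy
  exact ⟨f t, by rw [coe_emb, ht, glMap_xG]⟩

include hp cs in
theorem emb_Sup (f : F →+* K) {S : Set (Fin l → ℤ)} (hS : ∀ x ∈ S, IsRoot cs hp.isCartan x) {y : ↥(D.group F)}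
    (hy : y ∈ RGD.Sup (XX D l F) S) : emb hp.inList f y ∈ RGD.Sup (XX D l K) S := by
  have h1 : RGD.Sup (XX D l F) S ≤ (RGD.Sup (XX D l K) S).comap (emb hp.inList f) :=
    RGD.Sup_le fun x hx y hy => RGD.le_Sup hx (emb_XX hp cs f (hS x hx) hy)
  exact h1 hy

/-- the parabolic subgroups are compatible with field maps -/
theorem emb_PJ (f : F →+* K) {J : Set (Fin l)} {y : ↥(D.group F)}
    (hy : y ∈ PJ cs hp.isCartan (TT D F) (XX D l F) J) :
    emb hp.inList f y ∈ PJ cs hp.isCartan (TT D K) (XX D l K) J := by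
  have h1 : PJ cs hp.isCartan (TT D F) (XX D l F) J ≤
      (PJ cs hp.isCartan (TT D K) (XX D l K) J).comap (emb hp.inList f) := by
    refine sup_le (sup_le (fun t ht => ?_) (fun y hy => ?_)) (fun y hy => ?_)
    · exact LJ_le_PJ (T_le_LJ (emb_TT f hp.inList ht))
    · exact LJ_le_PJ (Subgroup.mem_sup_right (emb_Sup hp cs f (fun x hx => hx.1) hy))
    · exact VJ_le_PJ (emb_Sup hp cs f (fun x hx => hx.1) hy)
  exact h1 hy

/-- **The field automorphisms as frame automorphisms.** -/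
theorem tau_field (τ : K ≃+* K) :
    Tau (TT D K) (XX D l K) (ch (K := K) hp) (cartanOf D l) (fieldAut hp.inList τ) 1 τ := by
  have hinv : ∀ y, fieldAut hp.inList τ.symm (fieldAut hp.inList τ y) = y := fun y => by
    rw [fieldAut_apply, fieldAut_apply, emb_comp]
    have : ((τ.symm : K →+* K).comp (τ : K →+* K)) = RingHom.id K := by ext a; simp
    rw [this, emb_id]
  have hX : ∀ r < D.nroots, ∀ y, fieldAut hp.inList τ y ∈ XX D l K (vec D l r) ↔ y ∈ XX D l K (vec D l r) := by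
    intro r hr y
    have hroot := isRoot_vec hp M.toCoxeterSystem hr
    constructor
    · intro h1
      have h2 := emb_XX hp M.toCoxeterSystem (τ.symm : K →+* K) hroot h1
      have h3 := hinv y
      rw [fieldAut_apply] at h3
      rwa [h3] at h2
    · exact fun h1 => emb_XX hp M.toCoxeterSystem (τ : K →+* K) hroot h1
  refine ⟨⟨fun t => ⟨fun h1 => ?_, fun h1 => emb_TT _ hp.inList h1⟩, fun i y => ?_, fun i y => ?_⟩,
    fun i j => rfl, fun i t ht => ?_⟩
  · have h2 := emb_TT (τ.symm : K →+* K) hp.inList h1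
    have h3 := hinv t
    rw [fieldAut_apply] at h3
    rwa [h3] at h2
  · rw [Equiv.Perm.one_apply, ← vec_simple hp i]
    exact hX _ (simple_lt hp.inList (lt_rank hp i)) y
  · have h1 := simple_lt hp.inList (lt_rank hp i)
    rw [Equiv.Perm.one_apply, ← vec_simple hp i, ← vec_neg hp h1]
    exact hX _ (neg_lt hp.inList h1) y
  · rw [Equiv.Perm.one_apply, ← vec_simple hp i]
    have hr := simple_lt hp.inList (lt_rank hp i)
    apply ch_eq hp hr (emb_TT _ hp.inList ht)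
    have h1 := (act hp hr ht).2 1
    have h2 := congrArg (emb hp.inList (τ : K →+* K)) h1
    rw [map_mul, map_mul, map_inv, emb_xc hp _ hr, emb_xc hp _ hr, mul_one] at h2
    have h3 : (τ : K →+* K) 1 = 1 := map_one _
    rw [h3] at h2
    exact h2

end Emb

end Cfsg.Agent.PRankPar.Chev

end

-- merged: Cfsg.Agent.PRankPar.Lin
section

/-!
# Eigenspaces of lattice isometries modulo a prime (helper7)

`M`, `B` matrices over a field `K` with `M B Mᵀ = B`, `det B ≠ 0`, `q ≠ 0`, `q² ≠ 1`, `e ≠ 0` with `M e = e`: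
then `2 dim ker (M - q) + 1 ≤ n` (`two_mul_finrank_add_one_le`); for `K = ZMod ℓ` : `card_ker_le`.
-/

set_option autoImplicit false

namespace Cfsg.Agent.PRankPar.Lin

open Matrix Module

section

variable {I K : Type*} [Fintype I] [DecidableEq I] [Field K]

/-- the eigenspace -/
noncomputable abbrev Eig (M : Matrix I I K) (a : K) : Submodule K (I → K) := End.eigenspace (Matrix.toLin' M) a

theorem mem_eig {M : Matrix I I K} {a : K} {v : I → K} : v ∈ Eig M a ↔ M *ᵥ v = a • v := by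
  rw [End.mem_eigenspace_iff, Matrix.toLin'_apply]

theorem finrank_eig (M : Matrix I I K) (a : K) :
    finrank K ↥(Eig M a) + (M - a • (1 : Matrix I I K)).rank = Fintype.card I := by
  have h1 : Eig M a = LinearMap.ker (Matrix.toLin' (M - a • (1 : Matrix I I K))) := by
    ext v
    rw [mem_eig, LinearMap.mem_ker, Matrix.toLin'_apply, Matrix.sub_mulVec, Matrix.smul_mulVec, Matrix.one_mulVec,
      sub_eq_zero]
  rw [h1]
  have h2 := LinearMap.finrank_range_add_finrank_ker (Matrix.toLin' (M - a • (1 : Matrix I I K)))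
  rw [Module.finrank_fintype_fun_eq_card] at h2
  rw [← h2, add_comm]
  rfl

variable {M B : Matrix I I K}

theorem isUnit_det_of_isometry (h : M * B * Mᵀ = B) (hB : B.det ≠ 0) : IsUnit M.det := by
  rw [isUnit_iff_ne_zero]
  intro h0
  apply hB
  rw [← h, Matrix.det_mul, Matrix.det_mul, h0, zero_mul, zero_mul]

/-- the eigenspaces for `q` and `q⁻¹` have the same dimension -/
theorem finrank_eig_inv (h : M * B * Mᵀ = B) (hB : B.det ≠ 0) {q : K} (hq : q ≠ 0) :
    finrank K ↥(Eig M q) = finrank K ↥(Eig M q⁻¹) := by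
  have hM := isUnit_det_of_isometry h hB
  have hBu : IsUnit B.det := isUnit_iff_ne_zero.2 hB
  have h1 := finrank_eig M q
  have h2 := finrank_eig M q⁻¹
  -- `Mᵀ = B⁻¹ M⁻¹ B`
  have h3 : Mᵀ = B⁻¹ * M⁻¹ * B := by
    have h4 : M * (B * Mᵀ) = B := by rw [← Matrix.mul_assoc]; exact h
    have h5 : B * Mᵀ = M⁻¹ * B := by
      calc B * Mᵀ = M⁻¹ * (M * (B * Mᵀ)) := by
            rw [← Matrix.mul_assoc, Matrix.nonsing_inv_mul M hM, Matrix.one_mul]
        _ = M⁻¹ * B := by rw [h4]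
    calc Mᵀ = B⁻¹ * (B * Mᵀ) := by rw [← Matrix.mul_assoc, Matrix.nonsing_inv_mul B hBu, Matrix.one_mul]
      _ = B⁻¹ * (M⁻¹ * B) := by rw [h5]
      _ = B⁻¹ * M⁻¹ * B := by rw [Matrix.mul_assoc]
  have h4 : (M - q • (1 : Matrix I I K)).rank = (M - q⁻¹ • (1 : Matrix I I K)).rank := by
    rw [← Matrix.rank_transpose (M - q • (1 : Matrix I I K))]
    have h5 : (M - q • (1 : Matrix I I K))ᵀ = B⁻¹ * ((-q) • (M⁻¹ * (M - q⁻¹ • (1 : Matrix I I K)))) * B := by
      have h6 : (-q) • (M⁻¹ * (M - q⁻¹ • (1 : Matrix I I K))) = M⁻¹ - q • (1 : Matrix I I K) := by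
        rw [Matrix.mul_sub, Matrix.nonsing_inv_mul M hM, Matrix.mul_smul M⁻¹, Matrix.mul_one, smul_sub, smul_smul,
          neg_mul, mul_inv_cancel₀ hq, neg_smul, neg_smul, one_smul]
        abel
      rw [h6, Matrix.transpose_sub, Matrix.transpose_smul, Matrix.transpose_one, h3, Matrix.mul_sub, Matrix.sub_mul,
        Matrix.mul_smul B⁻¹, Matrix.mul_one, Matrix.smul_mul, Matrix.nonsing_inv_mul B hBu]
    rw [h5]
    have hBi : IsUnit (B⁻¹).det := by
      rw [Matrix.det_nonsing_inv]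
      exact hBu.ringInverse
    have hMi : IsUnit (M⁻¹).det := by
      rw [Matrix.det_nonsing_inv]
      exact hM.ringInverse
    rw [Matrix.rank_mul_eq_left_of_isUnit_det _ _ hBu, Matrix.rank_mul_eq_right_of_isUnit_det _ _ hBi]
    have h6 : (-q) • (M⁻¹ * (M - q⁻¹ • (1 : Matrix I I K))) =
        ((-q) • (1 : Matrix I I K)) * (M⁻¹ * (M - q⁻¹ • (1 : Matrix I I K))) := by
      rw [Matrix.smul_mul, Matrix.one_mul]
    have hqu : IsUnit ((-q) • (1 : Matrix I I K)).det := by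
      rw [Matrix.det_smul, Matrix.det_one, mul_one]
      exact isUnit_iff_ne_zero.2 (pow_ne_zero _ (neg_ne_zero.2 hq))
    rw [h6, Matrix.rank_mul_eq_right_of_isUnit_det _ _ hqu, Matrix.rank_mul_eq_right_of_isUnit_det _ _ hMi]
  omega

/-- three different eigenvalues -/
theorem sum_finrank_le (M : Matrix I I K) {a b c : K} (hab : a ≠ b) (hac : a ≠ c) (hbc : b ≠ c) :
    finrank K ↥(Eig M a) + finrank K ↥(Eig M b) + finrank K ↥(Eig M c) ≤ Fintype.card I := by
  have hd1 : Disjoint (Eig M a) (Eig M b) := by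
    rw [Submodule.disjoint_def]
    intro x hx hx'
    rw [mem_eig] at hx hx'
    rw [hx, ← sub_eq_zero, ← sub_smul] at hx'
    rcases smul_eq_zero.1 hx' with h | h
    · exact absurd h (sub_ne_zero.2 hab)
    · exact h
  have hd2 : Disjoint (Eig M a ⊔ Eig M b) (Eig M c) := by
    rw [Submodule.disjoint_def]
    intro x hx hxc
    obtain ⟨u, hu, v, hv, rfl⟩ := Submodule.mem_sup.1 hx
    rw [mem_eig] at hu hv hxc
    rw [Matrix.mulVec_add, hu, hv, smul_add] at hxc
    have h1 : (a - c) • u + (b - c) • v = 0 := by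
      rw [sub_smul, sub_smul]
      rw [← sub_eq_zero] at hxc
      rw [← hxc]
      abel
    -- apply `M - b`
    have h2 : (a - c) • (a - b) • u = 0 := by
      have h3 : M *ᵥ ((a - c) • u + (b - c) • v) = 0 := by rw [h1, Matrix.mulVec_zero]
      rw [Matrix.mulVec_add, Matrix.mulVec_smul, Matrix.mulVec_smul, hu, hv] at h3
      have h4 : b • ((a - c) • u + (b - c) • v) = 0 := by rw [h1, smul_zero]
      rw [smul_add] at h4
      have h5 : (a - c) • a • u + (b - c) • b • v - (b • (a - c) • u + b • (b - c) • v) = 0 := by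
        rw [h3, h4, sub_zero]
      rw [← h5, sub_smul a b, smul_sub, smul_comm b (a - c) u, smul_comm b (b - c) v]
      abel
    have hu0 : u = 0 := by
      rcases smul_eq_zero.1 h2 with h3 | h3
      · exact absurd h3 (sub_ne_zero.2 hac)
      · rcases smul_eq_zero.1 h3 with h4 | h4
        · exact absurd h4 (sub_ne_zero.2 hab)
        · exact h4
    have hv0 : v = 0 := by
      rw [hu0, smul_zero, zero_add] at h1
      rcases smul_eq_zero.1 h1 with h3 | h3
      · exact absurd h3 (sub_ne_zero.2 hbc)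
      · exact h3
    rw [hu0, hv0, add_zero]
  have h1 := Submodule.finrank_sup_add_finrank_inf_eq (Eig M a) (Eig M b)
  rw [hd1.eq_bot, finrank_bot, add_zero] at h1
  have h2 := Submodule.finrank_sup_add_finrank_inf_eq (Eig M a ⊔ Eig M b) (Eig M c)
  rw [hd2.eq_bot, finrank_bot, add_zero] at h2
  have h3 := Submodule.finrank_le (Eig M a ⊔ Eig M b ⊔ Eig M c)
  rw [Module.finrank_fintype_fun_eq_card] at h3
  omega

theorem two_mul_finrank_add_one_le (h : M * B * Mᵀ = B) (hB : B.det ≠ 0) {q : K} (hq : q ≠ 0) (hq2 : q ^ 2 ≠ 1)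
    {e : I → K} (he : e ≠ 0) (hMe : M *ᵥ e = e) : 2 * finrank K ↥(Eig M q) + 1 ≤ Fintype.card I := by
  have h1 : q ≠ 1 := by
    rintro rfl
    exact hq2 (one_pow 2)
  have h2 : q ≠ q⁻¹ := by
    intro h3
    apply hq2
    rw [sq]
    nth_rewrite 2 [h3]
    exact mul_inv_cancel₀ hq
  have h3 : q⁻¹ ≠ 1 := by
    intro h4
    exact h1 (inv_eq_one.1 h4)
  have h4 := sum_finrank_le M h2 h1 h3
  have h5 := finrank_eig_inv h hB hq
  have h6 : 1 ≤ finrank K ↥(Eig M (1 : K)) := by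
    rw [Nat.one_le_iff_ne_zero, ← Nat.pos_iff_ne_zero, Module.finrank_pos_iff]
    exact ⟨⟨⟨e, mem_eig.2 (by rw [one_smul, hMe])⟩, 0, fun h => he (congrArg Subtype.val h)⟩⟩
  omega

/-- two different eigenvalues -/
theorem sum_finrank_le' (M : Matrix I I K) {a b : K} (hab : a ≠ b) :
    finrank K ↥(Eig M a) + finrank K ↥(Eig M b) ≤ Fintype.card I := by
  have hd1 : Disjoint (Eig M a) (Eig M b) := by
    rw [Submodule.disjoint_def]
    intro x hx hx'
    rw [mem_eig] at hx hx'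
    rw [hx, ← sub_eq_zero, ← sub_smul] at hx'
    rcases smul_eq_zero.1 hx' with h | h
    · exact absurd h (sub_ne_zero.2 hab)
    · exact h
  have h1 := Submodule.finrank_sup_add_finrank_inf_eq (Eig M a) (Eig M b)
  rw [hd1.eq_bot, finrank_bot, add_zero] at h1
  have h3 := Submodule.finrank_le (Eig M a ⊔ Eig M b)
  rw [Module.finrank_fintype_fun_eq_card] at h3
  omega

theorem two_mul_finrank_le (h : M * B * Mᵀ = B) (hB : B.det ≠ 0) {q : K} (hq : q ≠ 0) (hq2 : q ^ 2 ≠ 1) :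
    2 * finrank K ↥(Eig M q) ≤ Fintype.card I := by
  have h2 : q ≠ q⁻¹ := by
    intro h3
    apply hq2
    rw [sq]
    nth_rewrite 2 [h3]
    exact mul_inv_cancel₀ hq
  have h4 := sum_finrank_le' M h2
  have h5 := finrank_eig_inv h hB hq
  omega

end

/-- cardinality of the eigenspace over `ZMod ℓ` -/
theorem card_ker_le' {I : Type*} [Fintype I] [DecidableEq I] {ℓ : ℕ} [Fact ℓ.Prime] {M B : Matrix I I (ZMod ℓ)}
    (h : M * B * Mᵀ = B) (hB : B.det ≠ 0) {q : ZMod ℓ} (hq : q ≠ 0) (hq2 : q ^ 2 ≠ 1) :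
    Nat.card ↥(Eig M q) ≤ ℓ ^ (Fintype.card I / 2) := by
  have h1 := two_mul_finrank_le h hB hq hq2
  rw [Module.natCard_eq_pow_finrank (K := ZMod ℓ), Nat.card_zmod]
  exact Nat.pow_le_pow_right (Fact.out : ℓ.Prime).pos (by omega)

/-- cardinality of the eigenspace over `ZMod ℓ` -/
theorem card_ker_le {I : Type*} [Fintype I] [DecidableEq I] {ℓ : ℕ} [Fact ℓ.Prime] {M B : Matrix I I (ZMod ℓ)}
    (h : M * B * Mᵀ = B) (hB : B.det ≠ 0) {q : ZMod ℓ} (hq : q ≠ 0) (hq2 : q ^ 2 ≠ 1) {e : I → ZMod ℓ} (he : e ≠ 0)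
    (hMe : M *ᵥ e = e) : Nat.card ↥(Eig M q) ≤ ℓ ^ ((Fintype.card I - 1) / 2) := by
  have h1 := two_mul_finrank_add_one_le h hB hq hq2 he hMe
  rw [Module.natCard_eq_pow_finrank (K := ZMod ℓ), Nat.card_zmod]
  exact Nat.pow_le_pow_right (Fact.out : ℓ.Prime).pos (by omega)

end Cfsg.Agent.PRankPar.Lin

end

-- merged: Cfsg.Agent.PRankPar.Unip
section

/-!
# Integral matrices of prime order `ℓ ≥ 5` are not unipotent of exponent three modulo `ℓ` (helper7)

* `eq_one_of_pow` : `v ∈ Mat(ℤ)`, `v ^ ℓ = 1`, `(v - 1)³ ≡ 0` modulo `ℓ ≥ 5` implies `v = 1`;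
* `cube_eq_zero` : a unipotent isometry of a nondegenerate symmetric space of dimension at most 8 (characteristic not 2)
  which fixes pointwise a totally isotropic subspace of dimension 3 satisfies `(f - 1)³ = 0`.
-/

set_option autoImplicit false

namespace Cfsg.Agent.PRankPar.Unip

open Matrix Module Polynomial

/-- `(1 + X) ^ ℓ = X ^ ℓ + 1 + ℓ X (1 + X b)` -/
theorem exists_poly {ℓ : ℕ} (hℓ : ℓ.Prime) :
    ∃ b : ℤ[X], (X + 1 : ℤ[X]) ^ ℓ = X ^ ℓ + 1 + (ℓ : ℤ[X]) * (X * (1 + X * b)) := by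
  obtain ⟨r, hr⟩ := exists_add_pow_prime_eq hℓ (X : ℤ[X]) 1
  rw [one_pow, mul_one] at hr
  have h0 : r.coeff 0 = 1 := by
    have h1 := congrArg (fun P : ℤ[X] => P.coeff 1) hr
    have h2 : ((X + 1 : ℤ[X]) ^ ℓ).coeff 1 = (ℓ : ℤ) := by
      rw [Polynomial.coeff_X_add_one_pow, Nat.choose_one_right]
    have h3 : (X ^ ℓ + 1 + (ℓ : ℤ[X]) * X * r : ℤ[X]).coeff 1 = (ℓ : ℤ) * r.coeff 0 := by
      rw [Polynomial.coeff_add, Polynomial.coeff_add, Polynomial.coeff_X_pow, if_neg hℓ.one_lt.ne,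
        Polynomial.coeff_one, if_neg one_ne_zero, zero_add, zero_add, mul_assoc, ← Polynomial.C_eq_natCast,
        Polynomial.coeff_C_mul, Polynomial.coeff_X_mul]
    have h4 : (ℓ : ℤ) = (ℓ : ℤ) * r.coeff 0 := by
      rw [← h3]
      nth_rewrite 1 [← h2]
      exact h1
    have h5 : (ℓ : ℤ) ≠ 0 := by exact_mod_cast hℓ.ne_zero
    exact (mul_left_cancel₀ h5 (by rw [mul_one]; exact h4)).symm
  refine ⟨Polynomial.divX r, ?_⟩
  have h1 : r = 1 + X * Polynomial.divX r := by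
    have h2 := Polynomial.X_mul_divX_add r
    rw [h0, Polynomial.C_1] at h2
    rw [add_comm, h2]
  rw [hr, ← h1, mul_assoc]

section

variable {I : Type*} [Fintype I] [DecidableEq I]

theorem eq_one_of_pow {ℓ : ℕ} [Fact ℓ.Prime] (h5 : 5 ≤ ℓ) {v : Matrix I I ℤ} (hv : v ^ ℓ = 1)
    (h3 : (v.map (Int.cast : ℤ → ZMod ℓ) - 1) ^ 3 = 0) : v = 1 := by
  have hℓ : ℓ.Prime := Fact.out
  let N := v - 1
  let φ : Matrix I I ℤ →+* Matrix I I (ZMod ℓ) := (Int.castRingHom (ZMod ℓ)).mapMatrix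
  have hφN : φ N = v.map (Int.cast : ℤ → ZMod ℓ) - 1 := by
    change φ (v - 1) = _
    rw [map_sub, map_one]
    rfl
  -- `N ^ 3 = ℓ P`
  obtain ⟨P, hP⟩ : ∃ P : Matrix I I ℤ, N ^ 3 = (ℓ : ℤ) • P := by
    have h1 : φ (N ^ 3) = 0 := by rw [map_pow, hφN, h3]
    have h2 : ∀ i j, (ℓ : ℤ) ∣ (N ^ 3) i j := by
      intro i j
      have h4 := congrFun (congrFun h1 i) j
      exact (ZMod.intCast_zmod_eq_zero_iff_dvd _ _).1 h4
    choose P hP using h2
    refine ⟨Matrix.of P, ?_⟩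
    ext i j
    rw [hP i j]
    rfl
  have hℓ0 : (ℓ : ℤ) ≠ 0 := by exact_mod_cast hℓ.ne_zero
  have hcancel : ∀ A B : Matrix I I ℤ, (ℓ : ℤ) • A = (ℓ : ℤ) • B → A = B := by
    intro A B h
    ext i j
    have h1 := congrFun (congrFun h i) j
    exact mul_left_cancel₀ hℓ0 h1
  have hPN : Commute P N := by
    apply hcancel
    rw [← Matrix.smul_mul, ← hP, ← Matrix.mul_smul, ← hP, ← pow_succ, ← pow_succ']
  obtain ⟨b, hb⟩ := exists_poly hℓ
  have hb' := congrArg (Polynomial.aeval N) hb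
  rw [map_pow, map_add, map_one, aeval_X, map_add, map_add, map_one, map_pow, aeval_X, map_mul, map_natCast, map_mul,
    aeval_X, map_add, map_one, map_mul, aeval_X] at hb'
  have hN1 : N + 1 = v := by change v - 1 + 1 = v; abel
  rw [hN1, hv] at hb'
  -- `u N = 0`
  let bN := Polynomial.aeval N b
  have hbN : Commute bN N := by
    have h1 := Polynomial.aeval N (b * X)
    have h2 : bN * N = Polynomial.aeval N (b * X) := by rw [map_mul, aeval_X]
    have h3 : N * bN = Polynomial.aeval N (X * b) := by rw [map_mul, aeval_X]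
    change bN * N = N * bN
    rw [h2, h3, mul_comm]
  let g := P * N ^ (ℓ - 5) + bN
  have hg : Commute g N := by
    change (P * N ^ (ℓ - 5) + bN) * N = N * (P * N ^ (ℓ - 5) + bN)
    rw [add_mul, mul_add, hbN.eq, mul_assoc, (Commute.pow_self N (ℓ - 5)).eq, ← mul_assoc, ← mul_assoc, hPN.eq]
  have hNl : N ^ ℓ = (ℓ : ℤ) • (N * (P * N ^ (ℓ - 5) * N)) := by
    have e : ℓ = 3 + ((ℓ - 5) + 2) := by omega
    have h1 : N ^ ℓ = N ^ 3 * N ^ ((ℓ - 5) + 2) := by rw [← pow_add, ← e]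
    rw [h1, hP, Matrix.smul_mul, pow_add, sq]
    congr 1
    have h2 : N * (P * N ^ (ℓ - 5) * N) = (N * P) * N ^ (ℓ - 5) * N := by noncomm_ring
    rw [h2, ← hPN.eq]
    have h3 : P * N * N ^ (ℓ - 5) * N = P * (N * N ^ (ℓ - 5)) * N := by noncomm_ring
    rw [h3, (Commute.self_pow N (ℓ - 5)).eq]
    noncomm_ring
  have hNu : N * (1 + g * N) = 0 := by
    apply hcancel
    have h1 : (ℓ : Matrix I I ℤ) * (N * (1 + N * bN)) = (ℓ : ℤ) • (N * (1 + N * bN)) := by
      rw [← nsmul_eq_mul]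
      rw [natCast_zsmul]
    have h2 : (0 : Matrix I I ℤ) = N ^ ℓ + (ℓ : ℤ) • (N * (1 + N * bN)) := by
      rw [h1] at hb'
      have h4 : (1 : Matrix I I ℤ) - 1 = N ^ ℓ + 1 + (ℓ : ℤ) • (N * (1 + N * bN)) - 1 := by rw [← hb']
      rw [sub_self] at h4
      rw [h4]
      abel
    rw [smul_zero, h2, hNl, ← smul_add]
    congr 1
    rw [← hbN.eq]
    change N * (1 + (P * N ^ (ℓ - 5) + bN) * N) = _
    noncomm_ring
  -- the determinant of `u`
  have hdet : (1 + g * N).det ≠ 0 := by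
    intro h0
    have h1 : IsUnit (1 + φ (g * N)) := by
      apply IsNilpotent.isUnit_one_add
      refine ⟨3, ?_⟩
      rw [← map_pow, hg.mul_pow, map_mul, map_pow φ N, hφN, h3, mul_zero]
    have h2 : IsUnit (φ (1 + g * N)).det := by
      rw [← Matrix.isUnit_iff_isUnit_det, map_add, map_one]
      exact h1
    have h3' : (φ (1 + g * N)).det = 0 := by
      have h4 := RingHom.map_det (Int.castRingHom (ZMod ℓ)) (1 + g * N)
      rw [h0, map_zero] at h4
      exact h4.symm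
    rw [h3'] at h2
    exact not_isUnit_zero h2
  have hN0 : N = 0 := by
    have h1 : N * (1 + g * N) * (1 + g * N).adjugate = 0 := by rw [hNu, zero_mul]
    rw [mul_assoc, Matrix.mul_adjugate, Matrix.mul_smul, mul_one] at h1
    ext i j
    have h2 := congrFun (congrFun h1 i) j
    rcases mul_eq_zero.1 (show (1 + g * N).det * N i j = 0 from h2) with h3' | h3'
    · exact absurd h3' hdet
    · exact h3'
  rw [← hN1, hN0, zero_add]

end

section

variable {K V : Type*} [Field K] [AddCommGroup V] [Module K V] [FiniteDimensional K V] {β : LinearMap.BilinForm K V}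

open LinearMap (BilinForm)

theorem cube_eq_zero (h2 : (2 : K) ≠ 0) (hβ : β.Nondegenerate) (hs : β.IsSymm) (hV : finrank K V ≤ 8) {f : V →ₗ[K] V}
    (hf : ∀ x y, β (f x) (f y) = β x y) {k : ℕ} (hk : (f - 1) ^ k = 0) {A : Submodule K V} (hA3 : finrank K ↥A = 3)
    (hA : ∀ a ∈ A, f a = a) (hiso : ∀ a ∈ A, ∀ b ∈ A, β a b = 0) : (f - 1) ^ 3 = 0 := by
  have hrefl : β.IsRefl := hs.isRefl
  have hsym : ∀ x y, β x y = β y x := fun x y => hs.eq y x |>.symm ▸ rfl
  let g := f - 1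
  have hg : ∀ x, f x = x + g x := by
    intro x
    change f x = x + (f x - x)
    abel
  have hgA : ∀ a ∈ A, g a = 0 := by
    intro a ha
    change f a - a = 0
    rw [hA a ha, sub_self]
  -- `S = A^⊥`
  have h1 : ∀ x, ∀ a ∈ A, β a (g x) = 0 := by
    intro x a ha
    have h3 := hf a x
    rw [hA a ha, hg x, map_add] at h3
    exact add_eq_left.1 h3
  -- the main step
  have key : ∀ y, (∀ a ∈ A, β a y = 0) → g y ∉ A → g (g y) ∈ A → False := by
    intro y hy hn hn'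
    set n := g y with hndef
    have hnS : ∀ a ∈ A, β a n = 0 := h1 y
    have e1 : β y n + β n n = β y n := by
      have h3 := hf y n
      rw [hg y, hg n, ← hndef, map_add, map_add, LinearMap.add_apply, LinearMap.add_apply,
        hsym y (g n), hsym n (g n), hy _ hn', hnS _ hn', add_zero, add_zero] at h3
      exact h3
    have e2 : β n n = 0 := add_eq_left.1 e1
    have e3 : β y n = 0 := by
      have h3 := hf y y
      rw [hg y, ← hndef, map_add, map_add, LinearMap.add_apply, LinearMap.add_apply, hsym n y, e2, add_zero] at h3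
      have h4 : 2 * β y n = 0 := by
        have h5 : β y y + (β y n + β y n) = β y y := by rw [← add_assoc]; exact h3
        rw [two_mul]
        exact add_eq_left.1 h5
      exact (mul_eq_zero.1 h4).resolve_left h2
    -- dimensions
    have hd1 : finrank K ↥(A ⊔ Submodule.span K {n}) = 4 := by
      have h3 : A ⊓ Submodule.span K {n} = ⊥ := by
        rw [eq_bot_iff]
        rintro x ⟨hx1, hx2⟩
        obtain ⟨c, rfl⟩ := Submodule.mem_span_singleton.1 hx2
        rcases eq_or_ne c 0 with rfl | hc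
        · rw [zero_smul]; exact Submodule.zero_mem _
        · exfalso
          apply hn
          have := A.smul_mem c⁻¹ hx1
          rwa [smul_smul, inv_mul_cancel₀ hc, one_smul] at this
      have h4 := Submodule.finrank_sup_add_finrank_inf_eq A (Submodule.span K {n})
      have hn0 : n ≠ 0 := fun h => hn (h ▸ A.zero_mem)
      rw [h3, finrank_bot, add_zero, hA3, finrank_span_singleton hn0] at h4
      exact h4
    have hd2 : finrank K ↥(A ⊔ Submodule.span K {n} ⊔ Submodule.span K {y}) = 5 := by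
      have hyn : y ∉ A ⊔ Submodule.span K {n} := by
        intro hy'
        obtain ⟨a, ha, z, hz, e⟩ := Submodule.mem_sup.1 hy'
        obtain ⟨c, rfl⟩ := Submodule.mem_span_singleton.1 hz
        apply hn
        rw [hndef, ← e, map_add, hgA a ha, zero_add, map_smul]
        exact A.smul_mem c hn'
      have h3 : (A ⊔ Submodule.span K {n}) ⊓ Submodule.span K {y} = ⊥ := by
        rw [eq_bot_iff]
        rintro x ⟨hx1, hx2⟩
        obtain ⟨c, rfl⟩ := Submodule.mem_span_singleton.1 hx2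
        rcases eq_or_ne c 0 with rfl | hc
        · rw [zero_smul]; exact Submodule.zero_mem _
        · exfalso
          apply hyn
          have := (A ⊔ Submodule.span K {n}).smul_mem c⁻¹ hx1
          rwa [smul_smul, inv_mul_cancel₀ hc, one_smul] at this
      have h4 := Submodule.finrank_sup_add_finrank_inf_eq (A ⊔ Submodule.span K {n}) (Submodule.span K {y})
      have hy0 : y ≠ 0 := fun h => hyn (h ▸ Submodule.zero_mem _)
      rw [h3, finrank_bot, add_zero, hd1, finrank_span_singleton hy0] at h4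
      exact h4
    have hle : A ⊔ Submodule.span K {n} ≤ β.orthogonal (A ⊔ Submodule.span K {n} ⊔ Submodule.span K {y}) := by
      have ho : ∀ x, (∀ a ∈ A, β a x = 0) → β n x = 0 → β y x = 0 →
          x ∈ β.orthogonal (A ⊔ Submodule.span K {n} ⊔ Submodule.span K {y}) := by
        intro x hx1 hx2 hx3
        rw [LinearMap.BilinForm.mem_orthogonal_iff]
        intro z hz
        obtain ⟨z1, hz1, z2, hz2, rfl⟩ := Submodule.mem_sup.1 hz
        obtain ⟨z3, hz3, z4, hz4, rfl⟩ := Submodule.mem_sup.1 hz1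
        obtain ⟨c, rfl⟩ := Submodule.mem_span_singleton.1 hz2
        obtain ⟨d, rfl⟩ := Submodule.mem_span_singleton.1 hz4
        change β (z3 + d • n + c • y) x = 0
        rw [map_add, map_add, LinearMap.add_apply, LinearMap.add_apply, map_smul, map_smul, LinearMap.smul_apply,
          LinearMap.smul_apply, hx1 z3 hz3, hx2, hx3, smul_zero, smul_zero, add_zero, add_zero]
      rw [sup_le_iff]
      refine ⟨fun x hx => ho x (fun a ha => hiso a ha x hx) ?_ ?_, ?_⟩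
      · rw [hsym]; exact hnS x hx
      · rw [hsym]; exact hy x hx
      · rw [Submodule.span_singleton_le_iff_mem]
        exact ho n hnS e2 e3
    have h3 := Submodule.finrank_mono hle
    rw [hd1, LinearMap.BilinForm.finrank_orthogonal hβ, hd2] at h3
    omega
  -- `g` maps `S` into `A`
  have h3 : ∀ y, (∀ a ∈ A, β a y = 0) → g y ∈ A := by
    intro y hy
    by_contra hn
    -- the last iterate not in `A`
    have hex : ∃ m, (g ^ m) (g y) ∈ A := by
      refine ⟨k, ?_⟩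
      change ((f - 1) ^ k) (g y) ∈ A
      rw [hk]
      exact A.zero_mem
    classical
    let m := Nat.find hex
    have hm : (g ^ m) (g y) ∈ A := Nat.find_spec hex
    have hm0 : m ≠ 0 := by
      intro h0
      rw [h0, pow_zero] at hm
      exact hn hm
    obtain ⟨j, hj⟩ := Nat.exists_eq_succ_of_ne_zero hm0
    have hjn : (g ^ j) (g y) ∉ A := Nat.find_min hex (show j < m by omega)
    refine key ((g ^ j) y) ?_ ?_ ?_
    · intro a ha
      rcases Nat.eq_zero_or_pos j with h0 | h0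
      · rw [h0, pow_zero]; exact hy a ha
      · obtain ⟨i, rfl⟩ := Nat.exists_eq_succ_of_ne_zero h0.ne'
        rw [pow_succ']
        exact h1 _ a ha
    · have e : g ((g ^ j) y) = (g ^ j) (g y) := by
        have : (g * g ^ j) y = (g ^ j * g) y := by rw [← pow_succ', ← pow_succ]
        exact this
      rw [e]
      exact hjn
    · have e : g (g ((g ^ j) y)) = (g ^ m) (g y) := by
        have : (g * (g * g ^ j)) y = (g ^ m * g) y := by
          rw [hj, ← pow_succ', ← pow_succ', ← pow_succ]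
        exact this
      rw [e]
      exact hm
  ext x
  change g (g (g x)) = 0
  exact hgA _ (h3 _ (h1 x))

end

end Cfsg.Agent.PRankPar.Unip

end

-- merged: Cfsg.Agent.PRankPar.Weyl
section

/-!
# Eigenvectors modulo `ℓ` of elements of parabolic subgroups of Weyl groups (helper7)

`cs : CoxeterSystem M W`, `h : IsCartan M A`, `d i * A i j` symmetric with determinant prime to `ℓ` (`FormData`).

* `card_le` : `w ∈ W_J`, `q² ≠ 1`: the eigenspace of `w σ` for `q` on `(ZMod ℓ) ^ I` has at most `ℓ ^ ((|I| - 1) / 2)`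
  elements;
* `eq_one_of_fix` : `|I| ≤ 8`, `ℓ ≥ 5`: if it has `ℓ³` elements then no element of order `ℓ` of `W` fixes it pointwise.
-/

set_option autoImplicit false
set_option linter.unusedSectionVars false

namespace Cfsg.Agent.PRankPar.Weyl

open CoxeterSystem Cfsg.Agent.ChevalleyStructure.CoxeterGeom Cfsg.Agent.Tits.Roots Cfsg.Agent.Tits.Core
  Cfsg.Agent.Tits.Exchange
open Matrix Module

variable {I W : Type*} [Fintype I] [DecidableEq I] [Group W] {M : CoxeterMatrix I} {cs : CoxeterSystem M W}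
  {A : I → I → ℤ} {h : IsCartan M A}

/-! ### the invariant form -/

/-- the bilinear form with the Gram matrix `d i * A i j` -/
def form (A : I → I → ℤ) (d : I → ℤ) (x y : I → ℤ) : ℤ := ∑ i, d i * x i * pairing A i y

theorem form_add_left (d x x' y : I → ℤ) : form A d (x + x') y = form A d x y + form A d x' y := by
  unfold form
  rw [← Finset.sum_add_distrib]
  refine Finset.sum_congr rfl fun i _ => ?_
  rw [Pi.add_apply]
  ring

theorem form_smul_left (d : I → ℤ) (c : ℤ) (x y : I → ℤ) : form A d (c • x) y = c * form A d x y := by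
  unfold form
  rw [Finset.mul_sum]
  refine Finset.sum_congr rfl fun i _ => ?_
  rw [Pi.smul_apply, smul_eq_mul]
  ring

theorem form_sr_left (d : I → ℤ) (i : I) (y : I → ℤ) : form A d (sr i) y = d i * pairing A i y := by
  unfold form
  rw [Finset.sum_eq_single i]
  · rw [sr_self, mul_one]
  · intro k _ hk
    rw [sr_ne hk, mul_zero, zero_mul]
  · intro hi
    exact absurd (Finset.mem_univ i) hi

theorem form_comm {d : I → ℤ} (hd : ∀ i j, d i * A i j = d j * A j i) (x y : I → ℤ) : form A d x y = form A d y x := by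
  unfold form pairing
  simp only [Finset.mul_sum]
  rw [Finset.sum_comm]
  refine Finset.sum_congr rfl fun i _ => Finset.sum_congr rfl fun k _ => ?_
  calc d k * x k * (A k i * y i) = (d k * A k i) * x k * y i := by ring
    _ = (d i * A i k) * x k * y i := by rw [hd]
    _ = d i * y i * (A i k * x k) := by ring

theorem form_simple {d : I → ℤ} (h : IsCartan M A) (hd : ∀ i j, d i * A i j = d j * A j i) (i : I) (x y : I → ℤ) :
    form A d (rep cs h (cs.simple i) x) (rep cs h (cs.simple i) y) = form A d x y := by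
  rw [rep_simple_eq, rep_simple_eq]
  have e1 : ∀ a : ℤ, ∀ u v : I → ℤ, form A d (u - a • sr i) v = form A d u v - a * (d i * pairing A i v) := by
    intro a u v
    have h1 := form_add_left (A := A) d (u - a • sr i) (a • sr i) v
    rw [sub_add_cancel, form_smul_left, form_sr_left] at h1
    rw [h1]
    ring
  have e2 : pairing A i (sr i) = 2 := by
    unfold pairing
    rw [Finset.sum_eq_single i]
    · rw [sr_self, mul_one, h.diag]
    · intro k _ hk
      rw [sr_ne hk, mul_zero]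
    · intro hi
      exact absurd (Finset.mem_univ i) hi
  rw [e1, form_comm hd x, e1, form_comm hd y x]
  have e3 : pairing A i (y - pairing A i y • sr i) = - pairing A i y := by
    have h1 : pairing A i (y - pairing A i y • sr i) + pairing A i (pairing A i y • sr i) = pairing A i y := by
      rw [← pairing_add, sub_add_cancel]
    have h2 : pairing A i (pairing A i y • sr i) = pairing A i y * 2 := by
      rw [← e2]
      nth_rewrite 1 [pairing]
      nth_rewrite 3 [pairing]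
      rw [Finset.mul_sum]
      refine Finset.sum_congr rfl fun k _ => ?_
      rw [Pi.smul_apply, smul_eq_mul]
      ring
    rw [h2] at h1
    linarith
  rw [e3]
  ring

theorem form_rep {d : I → ℤ} (h : IsCartan M A) (hd : ∀ i j, d i * A i j = d j * A j i) (w : W) (x y : I → ℤ) :
    form A d (rep cs h w x) (rep cs h w y) = form A d x y := by
  obtain ⟨ω, rfl⟩ := cs.wordProd_surjective w
  induction ω with
  | nil => rw [wordProd_nil, map_one, Module.End.one_apply, Module.End.one_apply]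
  | cons i ω ih => rw [wordProd_cons, rep_mul_apply, rep_mul_apply, form_simple h hd, ih]

/-! ### matrices -/

/-- the matrix of `w σ` -/
def Mat (cs : CoxeterSystem M W) (h : IsCartan M A) (w : W) (σ : Equiv.Perm I) : Matrix I I ℤ :=
  Matrix.of fun i j => rep cs h w (sr (σ i)) j

/-- the Gram matrix -/
def Gram (A : I → I → ℤ) (d : I → ℤ) : Matrix I I ℤ := Matrix.of fun i j => d i * A i j

theorem sum_sr (x : I → ℤ) : x = ∑ k, x k • (sr k : I → ℤ) := by
  funext j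
  rw [Finset.sum_apply, Finset.sum_eq_single j]
  · rw [Pi.smul_apply, sr_self, smul_eq_mul, mul_one]
  · intro k _ hk
    rw [Pi.smul_apply, sr_ne hk.symm, smul_zero]
  · intro hj
    exact absurd (Finset.mem_univ j) hj

theorem mat_isometry {d : I → ℤ} (hd : ∀ i j, d i * A i j = d j * A j i) {σ : Equiv.Perm I}
    (hσ : ∀ i j, A (σ i) (σ j) = A i j) (hdσ : ∀ i, d (σ i) = d i) (w : W) :
    Mat cs h w σ * Gram A d * (Mat cs h w σ)ᵀ = Gram A d := by
  ext i j
  have h1 := form_rep (cs := cs) h hd w (sr (σ i)) (sr (σ j))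
  have h2 : form A d (sr (σ i)) (sr (σ j)) = d i * A i j := by
    rw [form_sr_left, hdσ]
    congr 1
    unfold pairing
    rw [Finset.sum_eq_single (σ j)]
    · rw [sr_self, mul_one, hσ]
    · intro k _ hk
      rw [sr_ne hk, mul_zero]
    · intro hi
      exact absurd (Finset.mem_univ _) hi
  rw [h2] at h1
  change _ = d i * A i j
  rw [← h1, Matrix.mul_apply]
  unfold form pairing
  simp only [Matrix.mul_apply, Matrix.transpose_apply, Finset.sum_mul, Finset.mul_sum]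
  rw [Finset.sum_comm]
  refine Finset.sum_congr rfl fun k _ => Finset.sum_congr rfl fun l _ => ?_
  change rep cs h w (sr (σ i)) k * (d k * A k l) * rep cs h w (sr (σ j)) l = _
  ring

theorem mat_one : Mat cs h 1 1 = 1 := by
  ext i j
  change rep cs h 1 (sr i) j = _
  rw [map_one, Module.End.one_apply, Matrix.one_apply]
  by_cases hij : i = j
  · subst hij
    rw [sr_self, if_pos rfl]
  · rw [sr_ne (Ne.symm hij), if_neg hij]

theorem mat_mul (v w : W) : Mat cs h (v * w) 1 = Mat cs h w 1 * Mat cs h v 1 := by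
  ext i j
  rw [Matrix.mul_apply]
  change rep cs h (v * w) (sr i) j = ∑ k, rep cs h w (sr i) k * rep cs h v (sr k) j
  rw [rep_mul_apply]
  conv_lhs => rw [sum_sr (rep cs h w (sr i)), map_sum, Finset.sum_apply]
  refine Finset.sum_congr rfl fun k _ => ?_
  rw [map_smul, Pi.smul_apply, smul_eq_mul]

theorem mat_pow (v : W) (n : ℕ) : Mat cs h (v ^ n) 1 = Mat cs h v 1 ^ n := by
  induction n with
  | zero => rw [pow_zero, pow_zero, mat_one]
  | succ n ih => rw [pow_succ, mat_mul, ih, pow_succ']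

/-- elements of `W_J` do not change the coordinates outside `J` -/
theorem rep_apply_of_notMem {J : Set I} {w : W} (hw : w ∈ WJ cs J) {k : I} (hk : k ∉ J) (x : I → ℤ) :
    rep cs h w x k = x k := by
  obtain ⟨ω, hω, rfl⟩ := exists_word_of_mem_WJ cs hw
  clear hw
  induction ω with
  | nil => rw [wordProd_nil, map_one, Module.End.one_apply]
  | cons i ω ih =>
    rw [wordProd_cons, rep_mul_apply, rep_simple_apply cs h i _ k (by rintro rfl; exact hk (hω _ (by simp))),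
      ih fun j hj => hω j (by simp [hj])]

/-! ### the results -/

/-- the Gram matrix is symmetric and invertible modulo `ℓ` -/
structure FormData (A : I → I → ℤ) (ℓ : ℕ) (d : I → ℤ) : Prop where
  sym : ∀ i j, d i * A i j = d j * A j i
  inv : ∃ (C : I → I → ℤ) (m : ℤ), (m : ZMod ℓ) ≠ 0 ∧ ∀ i j, ∑ k, d i * A i k * C k j = if i = j then m else 0

variable {ℓ : ℕ}

/-- reduction modulo `ℓ` -/
abbrev red (ℓ : ℕ) (P : Matrix I I ℤ) : Matrix I I (ZMod ℓ) := P.map (Int.cast : ℤ → ZMod ℓ)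

theorem red_mul (P Q : Matrix I I ℤ) : red ℓ (P * Q) = red ℓ P * red ℓ Q :=
  map_mul (Int.castRingHom (ZMod ℓ)).mapMatrix P Q

theorem red_transpose (P : Matrix I I ℤ) : red ℓ Pᵀ = (red ℓ P)ᵀ := rfl

theorem red_one : red ℓ (1 : Matrix I I ℤ) = 1 := map_one (Int.castRingHom (ZMod ℓ)).mapMatrix

theorem FormData.det_ne_zero [Fact ℓ.Prime] {d : I → ℤ} (hF : FormData A ℓ d) : (red ℓ (Gram A d)).det ≠ 0 := by
  obtain ⟨C, m, hm, hC⟩ := hF.inv
  have h1 : Gram A d * Matrix.of C = m • 1 := by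
    ext i j
    rw [Matrix.mul_apply, Matrix.smul_apply, Matrix.one_apply, smul_eq_mul]
    have := hC i j
    change ∑ k, d i * A i k * C k j = _
    rw [this]
    split_ifs <;> simp
  have h2 := congrArg (red ℓ) h1
  rw [red_mul] at h2
  have h3 : red ℓ (m • (1 : Matrix I I ℤ)) = (m : ZMod ℓ) • 1 := by
    ext i j
    simp only [red, Matrix.map_apply, Matrix.smul_apply, Matrix.one_apply, smul_eq_mul]
    split_ifs <;> simp
  rw [h3] at h2
  intro h0
  have h4 := congrArg Matrix.det h2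
  rw [Matrix.det_mul, h0, zero_mul, Matrix.det_smul, Matrix.det_one, mul_one] at h4
  exact pow_ne_zero _ hm h4.symm

section

variable [Fact ℓ.Prime] {d : I → ℤ} (hF : FormData A ℓ d) {σ : Equiv.Perm I} (hσ : ∀ i j, A (σ i) (σ j) = A i j)
  (hdσ : ∀ i, d (σ i) = d i) {J K : Set I} (hK : K.Nonempty) (hKJ : ∀ k ∈ K, k ∉ J) (hKσ : ∀ i, σ i ∈ K ↔ i ∈ K)
  {w : W} (hw : w ∈ WJ cs J) {q : ZMod ℓ} (hq : q ≠ 0) (hq2 : q ^ 2 ≠ 1)

include hF hσ hdσ in
theorem red_isometry : red ℓ (Mat cs h w σ) * red ℓ (Gram A d) * (red ℓ (Mat cs h w σ))ᵀ = red ℓ (Gram A d) := by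
  rw [← red_transpose, ← red_mul, ← red_mul, mat_isometry hF.sym hσ hdσ]

include hK hKJ hKσ hw in
theorem exists_fixed : ∃ e : I → ZMod ℓ, e ≠ 0 ∧ red ℓ (Mat cs h w σ) *ᵥ e = e := by
  classical
  refine ⟨fun i => if i ∈ K then 1 else 0, ?_, ?_⟩
  · obtain ⟨k, hk⟩ := hK
    intro h0
    have h1 := congrFun h0 k
    simp only [if_pos hk, Pi.zero_apply] at h1
    exact one_ne_zero h1
  · funext i
    rw [Matrix.mulVec, dotProduct]
    change ∑ j, ((rep cs h w (sr (σ i)) j : ℤ) : ZMod ℓ) * (if j ∈ K then 1 else 0) = if i ∈ K then 1 else 0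
    have h1 : ∀ j, ((rep cs h w (sr (σ i)) j : ℤ) : ZMod ℓ) * (if j ∈ K then 1 else 0) =
        if σ i = j then (if i ∈ K then 1 else 0) else 0 := by
      intro j
      by_cases hj : j ∈ K
      · rw [if_pos hj, mul_one, rep_apply_of_notMem hw (hKJ j hj)]
        by_cases hij : σ i = j
        · have h2 : i ∈ K := (hKσ i).1 (by rw [hij]; exact hj)
          rw [if_pos hij, if_pos h2, hij, sr_self, Int.cast_one]
        · rw [if_neg hij, sr_ne (Ne.symm hij), Int.cast_zero]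
      · rw [if_neg hj, mul_zero]
        by_cases hij : σ i = j
        · have h2 : i ∉ K := fun h3 => hj (by rw [← hij]; exact (hKσ i).2 h3)
          rw [if_pos hij, if_neg h2]
        · rw [if_neg hij]
    rw [Finset.sum_congr rfl fun j _ => h1 j, Finset.sum_ite_eq]
    simp only [_root_.Finset.mem_univ, ↓ _root_.reduceIte]

variable (S : Set (I → ZMod ℓ))
  (hS : ∀ a ∈ S, ∀ i, ∑ j, ((rep cs h w (sr (σ i)) j : ℤ) : ZMod ℓ) * a j = q * a i)

include hS in
theorem sub_eig : S ⊆ (Lin.Eig (red ℓ (Mat cs h w σ)) q : Set (I → ZMod ℓ)) := by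
  intro a ha
  rw [SetLike.mem_coe, Lin.mem_eig]
  funext i
  rw [Pi.smul_apply, smul_eq_mul, ← hS a ha i]
  rfl

include hF hσ hdσ hq2 hS

/-- the main step: an element of order `ℓ` fixing pointwise a three-dimensional eigenspace is trivial -/
theorem eq_one_aux (h3 : Module.finrank (ZMod ℓ) ↥(Lin.Eig (red ℓ (Mat cs h w σ)) q) ≤ 3) (h8 : Fintype.card I ≤ 8)
    (h5 : 5 ≤ ℓ) (hcard : ℓ ^ 3 ≤ Nat.card ↥S) {v : W} (hv : v ^ ℓ = 1)
    (hfix : ∀ a ∈ S, ∀ i, ∑ j, ((rep cs h v (sr i) j : ℤ) : ZMod ℓ) * a j = a i) : v = 1 := by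
  have hℓ : ℓ.Prime := Fact.out
  have hiso := red_isometry (cs := cs) (h := h) (w := w) hF hσ hdσ
  set E := Lin.Eig (red ℓ (Mat cs h w σ)) q with hE
  have hcE : Nat.card ↥E = ℓ ^ finrank (ZMod ℓ) ↥E := by
    rw [Module.natCard_eq_pow_finrank (K := ZMod ℓ), Nat.card_zmod]
  have hSE : S ⊆ (E : Set (I → ZMod ℓ)) := sub_eig S hS
  have h1 : Nat.card ↥S ≤ Nat.card ↥E := Nat.card_mono (Set.toFinite _) hSE
  have hfr : finrank (ZMod ℓ) ↥E = 3 := by
    have h2 : 3 ≤ finrank (ZMod ℓ) ↥E := by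
      rw [hcE] at h1
      exact (Nat.pow_le_pow_iff_right hℓ.one_lt).1 (hcard.trans h1)
    omega
  have hSeq : S = (E : Set (I → ZMod ℓ)) := by
    apply Set.eq_of_subset_of_ncard_le hSE _ (Set.toFinite _)
    rw [← Nat.card_coe_set_eq, ← Nat.card_coe_set_eq]
    change Nat.card ↥E ≤ _
    rw [hcE, hfr]
    exact hcard
  -- the matrix of `v`
  let V := red ℓ (Mat cs h v 1)
  let B := red ℓ (Gram A d)
  have hVpow : Mat cs h v 1 ^ ℓ = 1 := by rw [← mat_pow, hv, mat_one]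
  have hViso : V * B * Vᵀ = B := red_isometry (cs := cs) (h := h) (w := v) (σ := 1) hF (fun _ _ => rfl) fun _ => rfl
  have hBu : IsUnit B.det := isUnit_iff_ne_zero.2 hF.det_ne_zero
  have hVu := Lin.isUnit_det_of_isometry hViso hF.det_ne_zero
  have hMu := Lin.isUnit_det_of_isometry hiso hF.det_ne_zero
  have hBT : Bᵀ = B := by
    ext i j
    change ((d j * A j i : ℤ) : ZMod ℓ) = ((d i * A i j : ℤ) : ZMod ℓ)
    rw [hF.sym]
  -- isometries of the inverse form
  have hinv : ∀ N : Matrix I I (ZMod ℓ), IsUnit N.det → N * B * Nᵀ = B → Nᵀ * B⁻¹ * N = B⁻¹ := by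
    intro N hN hNi
    have hNT : IsUnit Nᵀ.det := by rwa [Matrix.det_transpose]
    have h2 : (N * B * Nᵀ)⁻¹ = B⁻¹ := by rw [hNi]
    rw [Matrix.mul_inv_rev, Matrix.mul_inv_rev] at h2
    calc Nᵀ * B⁻¹ * N = Nᵀ * (Nᵀ⁻¹ * (B⁻¹ * N⁻¹)) * N := by rw [h2]
      _ = (Nᵀ * Nᵀ⁻¹) * B⁻¹ * (N⁻¹ * N) := by simp only [Matrix.mul_assoc]
      _ = B⁻¹ := by rw [Matrix.mul_nonsing_inv _ hNT, Matrix.nonsing_inv_mul _ hN, Matrix.one_mul, Matrix.mul_one]
  let β : LinearMap.BilinForm (ZMod ℓ) (I → ZMod ℓ) := Matrix.toBilin' B⁻¹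
  have hβ : ∀ x y, β x y = x ⬝ᵥ B⁻¹ *ᵥ y := fun x y => Matrix.toBilin'_apply' _ x y
  have hβi : ∀ N : Matrix I I (ZMod ℓ), IsUnit N.det → N * B * Nᵀ = B → ∀ x y, β (N *ᵥ x) (N *ᵥ y) = β x y := by
    intro N hN hNi x y
    rw [hβ, hβ]
    have h2 := hinv N hN hNi
    rw [Matrix.mulVec_mulVec, ← Matrix.vecMul_transpose, ← Matrix.dotProduct_mulVec, Matrix.mulVec_mulVec,
      ← Matrix.mul_assoc, h2]
  have hβn : β.Nondegenerate := by
    rw [LinearMap.BilinForm.nondegenerate_toBilin'_iff_det_ne_zero, Matrix.det_nonsing_inv]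
    exact (hBu.ringInverse).ne_zero
  have hβs : β.IsSymm := by
    refine ⟨fun x y => ?_⟩
    rw [hβ, hβ]
    have h2 : (B⁻¹)ᵀ = B⁻¹ := by rw [Matrix.transpose_nonsing_inv, hBT]
    rw [Matrix.dotProduct_mulVec, ← Matrix.mulVec_transpose, h2, dotProduct_comm]
  let f : (I → ZMod ℓ) →ₗ[ZMod ℓ] (I → ZMod ℓ) := Matrix.toLin' V
  have hf1 : ∀ n : ℕ, (f - 1) ^ n = Matrix.toLin' ((V - 1) ^ n) := by
    intro n
    have h2 : f - 1 = Matrix.toLin' (V - 1) := by
      rw [map_sub, Matrix.toLin'_one]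
      rfl
    rw [h2, Matrix.toLin'_pow]
  have hnil : (f - 1) ^ ℓ = 0 := by
    rw [hf1]
    have h2 : (V - 1) ^ ℓ = 0 := by
      have h3 : V ^ ℓ = 1 := by
        have h4 := congrArg (red ℓ) hVpow
        rw [red_one] at h4
        rw [← h4]
        exact (map_pow (Int.castRingHom (ZMod ℓ)).mapMatrix (Mat cs h v 1) ℓ).symm
      have h5 := Commute.exists_add_pow_prime_eq hℓ (x := V - 1) (y := (1 : Matrix I I (ZMod ℓ))) (Commute.one_right _)
      obtain ⟨r, hr⟩ := h5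
      have h6 : (ℓ : Matrix I I (ZMod ℓ)) = 0 := by
        rw [← Matrix.diagonal_natCast, CharP.cast_eq_zero]
        exact Matrix.diagonal_zero
      rw [sub_add_cancel, h3, one_pow, h6, zero_mul, zero_mul, zero_mul, add_zero] at hr
      exact (add_eq_right.1 hr.symm)
    rw [h2, map_zero]
  have hcube : (f - 1) ^ 3 = 0 := by
    refine Unip.cube_eq_zero (β := β) (A := E) ?_ hβn hβs (by rw [Module.finrank_fintype_fun_eq_card]; exact h8)
      (f := f) ?_ hnil hfr ?_ ?_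
    · intro h2
      have h3 : ((2 : ℕ) : ZMod ℓ) = 0 := by exact_mod_cast h2
      rw [ZMod.natCast_eq_zero_iff] at h3
      have := Nat.le_of_dvd (by norm_num) h3
      omega
    · intro x y
      rw [Matrix.toLin'_apply, Matrix.toLin'_apply]
      exact hβi V hVu hViso x y
    · intro a ha
      have haS : a ∈ S := by rw [hSeq]; exact ha
      rw [Matrix.toLin'_apply]
      funext i
      exact hfix a haS i
    · intro a ha b hb
      have h2 := hβi _ hMu hiso a b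
      rw [Lin.mem_eig.1 ha, Lin.mem_eig.1 hb, map_smul, map_smul, LinearMap.smul_apply, smul_smul, smul_eq_mul] at h2
      have h3 : (q ^ 2 - 1) * β a b = 0 := by
        rw [sub_mul, one_mul, sq, h2, sub_self]
      exact (mul_eq_zero.1 h3).resolve_left (sub_ne_zero.2 hq2)
  rw [hf1] at hcube
  have h3 : (V - 1) ^ 3 = 0 := by
    have h4 : Matrix.toLin' ((V - 1) ^ 3) = Matrix.toLin' (0 : Matrix I I (ZMod ℓ)) := by rw [hcube, map_zero]
    exact Matrix.toLin'.injective h4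
  have h4 := Unip.eq_one_of_pow h5 hVpow h3
  refine Cfsg.Agent.ChevalleyStructure.CoxeterGeom.eq_one_of_fix cs h v fun i => ?_
  funext j
  have h6 := congrFun (congrFun h4 i) j
  change rep cs h v (sr i) j = _ at h6
  change rep cs h v (sr i) j = sr i j
  rw [h6, Matrix.one_apply]
  by_cases hij : i = j
  · subst hij
    rw [sr_self, if_pos rfl]
  · rw [sr_ne (Ne.symm hij), if_neg hij]

include hq

/-- without a fixed vector -/
theorem card_le' : Nat.card ↥S ≤ ℓ ^ (Fintype.card I / 2) := by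
  have h1 := Lin.card_ker_le' (red_isometry (cs := cs) (h := h) (w := w) hF hσ hdσ) hF.det_ne_zero hq hq2
  refine le_trans ?_ h1
  exact Nat.card_mono (Set.toFinite _) (sub_eig S hS)

/-- without a fixed vector -/
theorem eq_one_of_fix' (h7 : Fintype.card I ≤ 7) (h5 : 5 ≤ ℓ) (hcard : ℓ ^ 3 ≤ Nat.card ↥S) {v : W} (hv : v ^ ℓ = 1)
    (hfix : ∀ a ∈ S, ∀ i, ∑ j, ((rep cs h v (sr i) j : ℤ) : ZMod ℓ) * a j = a i) : v = 1 := by
  have hfin := Lin.two_mul_finrank_le (red_isometry (cs := cs) (h := h) (w := w) hF hσ hdσ) hF.det_ne_zero hq hq2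
  exact eq_one_aux hF hσ hdσ hq2 S hS (by omega) (by omega) h5 hcard hv hfix

include hK hKJ hKσ hw

theorem card_le : Nat.card ↥S ≤ ℓ ^ ((Fintype.card I - 1) / 2) := by
  obtain ⟨e, he, hMe⟩ := exists_fixed (h := h) (σ := σ) (ℓ := ℓ) hK hKJ hKσ hw
  have h1 := Lin.card_ker_le (red_isometry (cs := cs) (h := h) (w := w) hF hσ hdσ) hF.det_ne_zero hq hq2 he hMe
  refine le_trans ?_ h1
  exact Nat.card_mono (Set.toFinite _) (sub_eig S hS)

theorem eq_one_of_fix (h8 : Fintype.card I ≤ 8) (h5 : 5 ≤ ℓ) (hcard : ℓ ^ 3 ≤ Nat.card ↥S) {v : W} (hv : v ^ ℓ = 1)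
    (hfix : ∀ a ∈ S, ∀ i, ∑ j, ((rep cs h v (sr i) j : ℤ) : ZMod ℓ) * a j = a i) : v = 1 := by
  obtain ⟨e, he, hMe⟩ := exists_fixed (h := h) (σ := σ) (ℓ := ℓ) hK hKJ hKσ hw
  have hfin := Lin.two_mul_finrank_add_one_le (red_isometry (cs := cs) (h := h) (w := w) hF hσ hdσ) hF.det_ne_zero hq
    hq2 he hMe
  exact eq_one_aux hF hσ hdσ hq2 S hS (by omega) h8 h5 hcard hv hfix

end

end Cfsg.Agent.PRankPar.Weyl

end

-- merged: Cfsg.Agent.PRankPar.CardW
section

/-!
# The Weyl groups of types `F₄`, `E₆`, `E₇`, `E₈` at the primes `ℓ ≥ 5` (helper7)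

* `formData_F4`, `formData_E6`, `formData_E7`, `formData_E8` : the Gram matrix is invertible modulo `ℓ ≥ 5`;
* `sq_not_dvd` : `ℓ²` does not divide `|W_J|`, `J ≠ univ`, `ℓ ≥ 5`.
-/

set_option autoImplicit false
set_option linter.unusedSectionVars false

namespace Cfsg.Agent.PRankPar.CardW

open CoxeterSystem Cfsg.Agent.ChevalleyStructure.CoxeterGeom Cfsg.Agent.Tits.Roots Cfsg.Agent.Tits.Core
  Cfsg.Agent.Tits.Exchange Cfsg.Agent.ChevalleyStructure.CoxeterGeomTypes Cfsg.Agent.PRankPar.Weyl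
open Matrix

/-! ### Gram matrices -/

theorem cast_ne_zero {ℓ : ℕ} (h5 : 5 ≤ ℓ) {m : ℕ} (hm0 : m ≠ 0) (hm : m < 5) : ((m : ℤ) : ZMod ℓ) ≠ 0 := by
  intro h0
  have h1 : ((m : ℕ) : ZMod ℓ) = 0 := by exact_mod_cast h0
  rw [ZMod.natCast_eq_zero_iff] at h1
  have := Nat.le_of_dvd (Nat.pos_of_ne_zero hm0) h1
  omega


/-- the Cartan matrix -/
def AF4 : Fin 4 → Fin 4 → ℤ := ![![2, -1, 0, 0], ![-1, 2, -2, 0], ![0, -1, 2, -1], ![0, 0, -1, 2]]

/-- the inverse Gram matrix -/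
def CF4 : Fin 4 → Fin 4 → ℤ := ![![4, 6, 4, 2], ![6, 12, 8, 4], ![4, 8, 6, 3], ![2, 4, 3, 2]]

/-- the lengths -/
def dF4 : Fin 4 → ℤ := ![1, 1, 2, 2]

set_option backward.isDefEq.respectTransparency false in
theorem cartan_F4 : cartanOf Cfsg.Lie.chevF4 4 = AF4 := by
  have h : ∀ i j : Fin 4, cartanOf Cfsg.Lie.chevF4 4 i j = AF4 i j := by (delta Cfsg.Agent.ChevalleyStructure.CoxeterGeomTypes.cartanOf; rewrite [Cfsg.Agent.ChevFast.F4.cartan]; decide +kernel)
  funext i j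
  exact h i j

set_option backward.isDefEq.respectTransparency false in
theorem inv_F4 : ∀ i j : Fin 4, ∑ k, dF4 i * AF4 i k * CF4 k j = if i = j then 2 else 0 := by
  decide +kernel

theorem formData_F4 {ℓ : ℕ} (h5 : 5 ≤ ℓ) :
    FormData (cartanOf Cfsg.Lie.chevF4 4) ℓ dF4 := by
  rw [cartan_F4]
  exact ⟨by decide +kernel, CF4, 2, by
    have := cast_ne_zero h5 (m := 2) (by norm_num) (by norm_num)
    exact_mod_cast this, inv_F4⟩


/-- the Cartan matrix -/
def AE6 : Fin 6 → Fin 6 → ℤ := ![![2, 0, -1, 0, 0, 0], ![0, 2, 0, -1, 0, 0], ![-1, 0, 2, -1, 0, 0], ![0, -1, -1, 2, -1, 0], ![0, 0, 0, -1, 2, -1], ![0, 0, 0, 0, -1, 2]]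

/-- the inverse Gram matrix -/
def CE6 : Fin 6 → Fin 6 → ℤ := ![![4, 3, 5, 6, 4, 2], ![3, 6, 6, 9, 6, 3], ![5, 6, 10, 12, 8, 4], ![6, 9, 12, 18, 12, 6], ![4, 6, 8, 12, 10, 5], ![2, 3, 4, 6, 5, 4]]

/-- the lengths -/
def dE6 : Fin 6 → ℤ := ![1, 1, 1, 1, 1, 1]

set_option backward.isDefEq.respectTransparency false in
theorem cartan_E6 : cartanOf Cfsg.Lie.chevE6 6 = AE6 := by
  have h : ∀ i j : Fin 6, cartanOf Cfsg.Lie.chevE6 6 i j = AE6 i j := by (delta Cfsg.Agent.ChevalleyStructure.CoxeterGeomTypes.cartanOf; rewrite [Cfsg.Agent.ChevFast.E6.cartan]; decide +kernel)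
  funext i j
  exact h i j

set_option backward.isDefEq.respectTransparency false in
theorem inv_E6 : ∀ i j : Fin 6, ∑ k, dE6 i * AE6 i k * CE6 k j = if i = j then 3 else 0 := by
  decide +kernel

theorem formData_E6 {ℓ : ℕ} (h5 : 5 ≤ ℓ) :
    FormData (cartanOf Cfsg.Lie.chevE6 6) ℓ dE6 := by
  rw [cartan_E6]
  exact ⟨by decide +kernel, CE6, 3, by
    have := cast_ne_zero h5 (m := 3) (by norm_num) (by norm_num)
    exact_mod_cast this, inv_E6⟩


/-- the Cartan matrix -/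
def AE7 : Fin 7 → Fin 7 → ℤ := ![![2, 0, -1, 0, 0, 0, 0], ![0, 2, 0, -1, 0, 0, 0], ![-1, 0, 2, -1, 0, 0, 0], ![0, -1, -1, 2, -1, 0, 0], ![0, 0, 0, -1, 2, -1, 0], ![0, 0, 0, 0, -1, 2, -1], ![0, 0, 0, 0, 0, -1, 2]]

/-- the inverse Gram matrix -/
def CE7 : Fin 7 → Fin 7 → ℤ := ![![4, 4, 6, 8, 6, 4, 2], ![4, 7, 8, 12, 9, 6, 3], ![6, 8, 12, 16, 12, 8, 4], ![8, 12, 16, 24, 18, 12, 6], ![6, 9, 12, 18, 15, 10, 5], ![4, 6, 8, 12, 10, 8, 4], ![2, 3, 4, 6, 5, 4, 3]]

/-- the lengths -/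
def dE7 : Fin 7 → ℤ := ![1, 1, 1, 1, 1, 1, 1]

set_option backward.isDefEq.respectTransparency false in
theorem cartan_E7 : cartanOf Cfsg.Lie.chevE7 7 = AE7 := by
  have h : ∀ i j : Fin 7, cartanOf Cfsg.Lie.chevE7 7 i j = AE7 i j := by (delta Cfsg.Agent.ChevalleyStructure.CoxeterGeomTypes.cartanOf; rewrite [Cfsg.Agent.ChevFast.E7.cartan]; decide +kernel)
  funext i j
  exact h i j

set_option backward.isDefEq.respectTransparency false in
theorem inv_E7 : ∀ i j : Fin 7, ∑ k, dE7 i * AE7 i k * CE7 k j = if i = j then 2 else 0 := by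
  (open scoped Cfsg.Agent.ChevFast.Lin in decide +kernel)

theorem formData_E7 {ℓ : ℕ} (h5 : 5 ≤ ℓ) :
    FormData (cartanOf Cfsg.Lie.chevE7 7) ℓ dE7 := by
  rw [cartan_E7]
  exact ⟨by decide +kernel, CE7, 2, by
    have := cast_ne_zero h5 (m := 2) (by norm_num) (by norm_num)
    exact_mod_cast this, inv_E7⟩


/-- the Cartan matrix -/
def AE8 : Fin 8 → Fin 8 → ℤ := ![![2, 0, -1, 0, 0, 0, 0, 0], ![0, 2, 0, -1, 0, 0, 0, 0], ![-1, 0, 2, -1, 0, 0, 0, 0], ![0, -1, -1, 2, -1, 0, 0, 0], ![0, 0, 0, -1, 2, -1, 0, 0], ![0, 0, 0, 0, -1, 2, -1, 0], ![0, 0, 0, 0, 0, -1, 2, -1], ![0, 0, 0, 0, 0, 0, -1, 2]]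

/-- the inverse Gram matrix -/
def CE8 : Fin 8 → Fin 8 → ℤ := ![![4, 5, 7, 10, 8, 6, 4, 2], ![5, 8, 10, 15, 12, 9, 6, 3], ![7, 10, 14, 20, 16, 12, 8, 4], ![10, 15, 20, 30, 24, 18, 12, 6], ![8, 12, 16, 24, 20, 15, 10, 5], ![6, 9, 12, 18, 15, 12, 8, 4], ![4, 6, 8, 12, 10, 8, 6, 3], ![2, 3, 4, 6, 5, 4, 3, 2]]

/-- the lengths -/
def dE8 : Fin 8 → ℤ := ![1, 1, 1, 1, 1, 1, 1, 1]

set_option backward.isDefEq.respectTransparency false in
theorem cartan_E8 : cartanOf Cfsg.Lie.chevE8 8 = AE8 := by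
  have h : ∀ i j : Fin 8, cartanOf Cfsg.Lie.chevE8 8 i j = AE8 i j := by (delta Cfsg.Agent.ChevalleyStructure.CoxeterGeomTypes.cartanOf; rewrite [Cfsg.Agent.ChevFast.E8.cartan]; open scoped Cfsg.Agent.ChevFast.Lin in decide +kernel)
  funext i j
  exact h i j

set_option backward.isDefEq.respectTransparency false in
theorem inv_E8 : ∀ i j : Fin 8, ∑ k, dE8 i * AE8 i k * CE8 k j = if i = j then 1 else 0 := by
  decide +kernel

theorem formData_E8 {ℓ : ℕ} (h5 : 5 ≤ ℓ) :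
    FormData (cartanOf Cfsg.Lie.chevE8 8) ℓ dE8 := by
  rw [cartan_E8]
  exact ⟨by decide +kernel, CE8, 1, by
    have := cast_ne_zero h5 (m := 1) (by norm_num) (by norm_num)
    exact_mod_cast this, inv_E8⟩


/-! ### an element of order five of `W(E₈)` without fixed vectors -/

section

variable {I W : Type*} [Fintype I] [DecidableEq I] [Group W] {M : CoxeterMatrix I} {cs : CoxeterSystem M W}
  {A : I → I → ℤ} {h : IsCartan M A}

theorem mat_mul_simple (w : W) (k : I) :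
    Mat cs h (w * cs.simple k) 1 = Matrix.of fun i j => Mat cs h w 1 i j - A k i * Mat cs h w 1 k j := by
  rw [mat_mul]
  ext i j
  rw [Matrix.mul_apply, Matrix.of_apply]
  have e1 : ∀ x, Mat cs h (cs.simple k) 1 i x = (sr i : I → ℤ) x - A k i * (sr k : I → ℤ) x := by
    intro x
    change rep cs h (cs.simple k) (sr i) x = _
    rw [rep_simple_eq, Pi.sub_apply, Pi.smul_apply, smul_eq_mul]
    congr 2
    unfold pairing
    rw [Finset.sum_eq_single i]
    · rw [sr_self, mul_one]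
    · intro m _ hm
      rw [sr_ne hm, mul_zero]
    · intro hi
      exact absurd (Finset.mem_univ i) hi
  have e2 : ∀ a : I, ∑ x, (sr a : I → ℤ) x * Mat cs h w 1 x j = Mat cs h w 1 a j := by
    intro a
    rw [Finset.sum_eq_single a]
    · rw [sr_self, one_mul]
    · intro m _ hm
      rw [sr_ne hm, zero_mul]
    · intro hi
      exact absurd (Finset.mem_univ a) hi
  simp only [e1, sub_mul, Finset.sum_sub_distrib, mul_assoc, ← Finset.mul_sum, e2]

end


/-- the matrix of `s₀ ⋯ s_{0}` -/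
def U1 : Fin 8 → Fin 8 → ℤ := ![![-1, 0, 0, 0, 0, 0, 0, 0], ![0, 1, 0, 0, 0, 0, 0, 0], ![1, 0, 1, 0, 0, 0, 0, 0], ![0, 0, 0, 1, 0, 0, 0, 0], ![0, 0, 0, 0, 1, 0, 0, 0], ![0, 0, 0, 0, 0, 1, 0, 0], ![0, 0, 0, 0, 0, 0, 1, 0], ![0, 0, 0, 0, 0, 0, 0, 1]]


/-- the matrix of `s₀ ⋯ s_{1}` -/
def U2 : Fin 8 → Fin 8 → ℤ := ![![-1, 0, 0, 0, 0, 0, 0, 0], ![0, -1, 0, 0, 0, 0, 0, 0], ![1, 0, 1, 0, 0, 0, 0, 0], ![0, 1, 0, 1, 0, 0, 0, 0], ![0, 0, 0, 0, 1, 0, 0, 0], ![0, 0, 0, 0, 0, 1, 0, 0], ![0, 0, 0, 0, 0, 0, 1, 0], ![0, 0, 0, 0, 0, 0, 0, 1]]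


/-- the matrix of `s₀ ⋯ s_{2}` -/
def U3 : Fin 8 → Fin 8 → ℤ := ![![0, 0, 1, 0, 0, 0, 0, 0], ![0, -1, 0, 0, 0, 0, 0, 0], ![-1, 0, -1, 0, 0, 0, 0, 0], ![1, 1, 1, 1, 0, 0, 0, 0], ![0, 0, 0, 0, 1, 0, 0, 0], ![0, 0, 0, 0, 0, 1, 0, 0], ![0, 0, 0, 0, 0, 0, 1, 0], ![0, 0, 0, 0, 0, 0, 0, 1]]


/-- the matrix of `s₀ ⋯ s_{3}` -/
def U4 : Fin 8 → Fin 8 → ℤ := ![![0, 0, 1, 0, 0, 0, 0, 0], ![1, 0, 1, 1, 0, 0, 0, 0], ![0, 1, 0, 1, 0, 0, 0, 0], ![-1, -1, -1, -1, 0, 0, 0, 0], ![1, 1, 1, 1, 1, 0, 0, 0], ![0, 0, 0, 0, 0, 1, 0, 0], ![0, 0, 0, 0, 0, 0, 1, 0], ![0, 0, 0, 0, 0, 0, 0, 1]]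


/-- the matrix of `s₀ ⋯ s_{4}` -/
def U5 : Fin 8 → Fin 8 → ℤ := ![![0, 0, 1, 0, 0, 0, 0, 0], ![1, 0, 1, 1, 0, 0, 0, 0], ![0, 1, 0, 1, 0, 0, 0, 0], ![0, 0, 0, 0, 1, 0, 0, 0], ![-1, -1, -1, -1, -1, 0, 0, 0], ![1, 1, 1, 1, 1, 1, 0, 0], ![0, 0, 0, 0, 0, 0, 1, 0], ![0, 0, 0, 0, 0, 0, 0, 1]]


/-- the matrix of `s₀ ⋯ s_{5}` -/
def U6 : Fin 8 → Fin 8 → ℤ := ![![0, 0, 1, 0, 0, 0, 0, 0], ![1, 0, 1, 1, 0, 0, 0, 0], ![0, 1, 0, 1, 0, 0, 0, 0], ![0, 0, 0, 0, 1, 0, 0, 0], ![0, 0, 0, 0, 0, 1, 0, 0], ![-1, -1, -1, -1, -1, -1, 0, 0], ![1, 1, 1, 1, 1, 1, 1, 0], ![0, 0, 0, 0, 0, 0, 0, 1]]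


/-- the matrix of `s₀ ⋯ s_{6}` -/
def U7 : Fin 8 → Fin 8 → ℤ := ![![0, 0, 1, 0, 0, 0, 0, 0], ![1, 0, 1, 1, 0, 0, 0, 0], ![0, 1, 0, 1, 0, 0, 0, 0], ![0, 0, 0, 0, 1, 0, 0, 0], ![0, 0, 0, 0, 0, 1, 0, 0], ![0, 0, 0, 0, 0, 0, 1, 0], ![-1, -1, -1, -1, -1, -1, -1, 0], ![1, 1, 1, 1, 1, 1, 1, 1]]


/-- the matrix of `s₀ ⋯ s_{7}` -/
def U8 : Fin 8 → Fin 8 → ℤ := ![![0, 0, 1, 0, 0, 0, 0, 0], ![1, 0, 1, 1, 0, 0, 0, 0], ![0, 1, 0, 1, 0, 0, 0, 0], ![0, 0, 0, 0, 1, 0, 0, 0], ![0, 0, 0, 0, 0, 1, 0, 0], ![0, 0, 0, 0, 0, 0, 1, 0], ![0, 0, 0, 0, 0, 0, 0, 1], ![-1, -1, -1, -1, -1, -1, -1, -1]]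


/-- power of the matrix of the Coxeter element -/
def P2 : Fin 8 → Fin 8 → ℤ := ![![0, 1, 0, 1, 0, 0, 0, 0], ![0, 1, 1, 1, 1, 0, 0, 0], ![1, 0, 1, 1, 1, 0, 0, 0], ![0, 0, 0, 0, 0, 1, 0, 0], ![0, 0, 0, 0, 0, 0, 1, 0], ![0, 0, 0, 0, 0, 0, 0, 1], ![-1, -1, -1, -1, -1, -1, -1, -1], ![0, 0, -1, -1, 0, 0, 0, 0]]


/-- power of the matrix of the Coxeter element -/
def P4 : Fin 8 → Fin 8 → ℤ := ![![0, 1, 1, 1, 1, 1, 0, 0], ![1, 1, 2, 2, 2, 1, 1, 0], ![1, 1, 1, 2, 1, 1, 1, 0], ![0, 0, 0, 0, 0, 0, 0, 1], ![-1, -1, -1, -1, -1, -1, -1, -1], ![0, 0, -1, -1, 0, 0, 0, 0], ![0, -1, 0, -1, -1, 0, 0, 0], ![-1, 0, -1, -1, -1, -1, 0, 0]]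


/-- power of the matrix of the Coxeter element -/
def G1 : Fin 8 → Fin 8 → ℤ := ![![1, 1, 2, 2, 2, 1, 1, 1], ![1, 1, 2, 3, 2, 1, 1, 0], ![0, 1, 1, 2, 1, 1, 0, 0], ![0, 0, -1, -1, 0, 0, 0, 0], ![0, -1, 0, -1, -1, 0, 0, 0], ![-1, 0, -1, -1, -1, -1, 0, 0], ![0, -1, -1, -1, -1, -1, -1, 0], ![-1, -1, -1, -2, -1, -1, -1, -1]]


/-- power of the matrix of the Coxeter element -/
def G2 : Fin 8 → Fin 8 → ℤ := ![![0, 0, 1, 1, 1, 1, 0, 0], ![1, 1, 1, 2, 2, 2, 1, 1], ![0, 1, 0, 1, 1, 1, 1, 0], ![0, -1, 0, -1, -1, -1, 0, 0], ![-1, 0, -1, -1, -1, -1, -1, 0], ![0, -1, -1, -1, -1, -1, -1, -1], ![0, 0, 0, -1, 0, 0, 0, 0], ![0, 0, 0, 0, -1, 0, 0, 0]]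


/-- power of the matrix of the Coxeter element -/
def G3 : Fin 8 → Fin 8 → ℤ := ![![-1, 0, -1, -1, -1, 0, 0, 0], ![-1, -1, -1, -2, -1, -1, 0, 0], ![0, -1, -1, -1, -1, -1, 0, 0], ![0, 0, 0, 0, 0, 0, -1, 0], ![0, 0, 0, 0, 0, 0, 0, -1], ![1, 1, 1, 1, 1, 1, 1, 1], ![0, 0, 1, 1, 0, 0, 0, 0], ![0, 1, 0, 1, 1, 0, 0, 0]]


/-- power of the matrix of the Coxeter element -/
def G4 : Fin 8 → Fin 8 → ℤ := ![![-1, -1, -2, -2, -2, -2, -1, -1], ![-1, -2, -2, -3, -3, -2, -2, -1], ![0, -1, -1, -2, -1, -1, -1, 0], ![0, 1, 1, 1, 1, 1, 1, 0], ![1, 1, 1, 2, 1, 1, 1, 1], ![0, 0, 1, 1, 1, 0, 0, 0], ![0, 1, 0, 1, 1, 1, 0, 0], ![1, 0, 1, 1, 1, 1, 1, 0]]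

set_option backward.isDefEq.respectTransparency false in
theorem step1 : ∀ i j : Fin 8, (if i = j then (1 : ℤ) else 0) - AE8 0 i * (if 0 = j then 1 else 0) = U1 i j := by
  decide +kernel

set_option backward.isDefEq.respectTransparency false in
theorem step2 : ∀ i j : Fin 8, U1 i j - AE8 1 i * U1 1 j = U2 i j := by
  decide +kernel

set_option backward.isDefEq.respectTransparency false in
theorem step3 : ∀ i j : Fin 8, U2 i j - AE8 2 i * U2 2 j = U3 i j := by
  decide +kernel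

set_option backward.isDefEq.respectTransparency false in
theorem step4 : ∀ i j : Fin 8, U3 i j - AE8 3 i * U3 3 j = U4 i j := by
  decide +kernel

set_option backward.isDefEq.respectTransparency false in
theorem step5 : ∀ i j : Fin 8, U4 i j - AE8 4 i * U4 4 j = U5 i j := by
  decide +kernel

set_option backward.isDefEq.respectTransparency false in
theorem step6 : ∀ i j : Fin 8, U5 i j - AE8 5 i * U5 5 j = U6 i j := by
  decide +kernel

set_option backward.isDefEq.respectTransparency false in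
theorem step7 : ∀ i j : Fin 8, U6 i j - AE8 6 i * U6 6 j = U7 i j := by
  decide +kernel

set_option backward.isDefEq.respectTransparency false in
theorem step8 : ∀ i j : Fin 8, U7 i j - AE8 7 i * U7 7 j = U8 i j := by
  decide +kernel

set_option backward.isDefEq.respectTransparency false in
theorem mul_P2 : ∀ i j : Fin 8, ∑ k, U8 i k * U8 k j = P2 i j := by
  decide +kernel

set_option backward.isDefEq.respectTransparency false in
theorem mul_P4 : ∀ i j : Fin 8, ∑ k, P2 i k * P2 k j = P4 i j := by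
  decide +kernel

set_option backward.isDefEq.respectTransparency false in
theorem mul_G1 : ∀ i j : Fin 8, ∑ k, P4 i k * P2 k j = G1 i j := by
  decide +kernel

set_option backward.isDefEq.respectTransparency false in
theorem mul_G2 : ∀ i j : Fin 8, ∑ k, G1 i k * G1 k j = G2 i j := by
  decide +kernel

set_option backward.isDefEq.respectTransparency false in
theorem mul_G3 : ∀ i j : Fin 8, ∑ k, G2 i k * G1 k j = G3 i j := by
  decide +kernel

set_option backward.isDefEq.respectTransparency false in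
theorem mul_G4 : ∀ i j : Fin 8, ∑ k, G2 i k * G2 k j = G4 i j := by
  decide +kernel

set_option backward.isDefEq.respectTransparency false in
theorem sum_eq : ∀ i j : Fin 8, (if i = j then (1 : ℤ) else 0) + G1 i j + G2 i j + G3 i j + G4 i j = 0 := by
  decide +kernel


section

variable {W : Type*} [Group W] (cs : CoxeterSystem CoxeterMatrix.E₈ W)
  (h : IsCartan CoxeterMatrix.E₈ (cartanOf Cfsg.Lie.chevE8 8))

theorem exists_five : ∃ c : W, 1 + Mat cs h c 1 + Mat cs h (c ^ 2) 1 + Mat cs h (c ^ 3) 1 + Mat cs h (c ^ 4) 1 = 0 := by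
  have hA : ∀ k i, cartanOf Cfsg.Lie.chevE8 8 k i = AE8 k i := fun k i => by rw [cartan_E8]
  have h1 : Mat cs h (cs.simple 0) 1 = Matrix.of U1 := by
    have e := mat_mul_simple (cs := cs) (h := h) 1 0
    rw [one_mul, mat_one] at e
    rw [e]
    ext i j
    rw [Matrix.of_apply, Matrix.of_apply, Matrix.one_apply, Matrix.one_apply, hA]
    exact step1 i j

  have h2 : Mat cs h (cs.simple 0 * cs.simple 1) 1 = Matrix.of U2 := by
    rw [mat_mul_simple, h1]
    ext i j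
    rw [Matrix.of_apply, Matrix.of_apply, Matrix.of_apply, Matrix.of_apply, hA]
    exact step2 i j

  have h3 : Mat cs h (cs.simple 0 * cs.simple 1 * cs.simple 2) 1 = Matrix.of U3 := by
    rw [mat_mul_simple, h2]
    ext i j
    rw [Matrix.of_apply, Matrix.of_apply, Matrix.of_apply, Matrix.of_apply, hA]
    exact step3 i j

  have h4 : Mat cs h (cs.simple 0 * cs.simple 1 * cs.simple 2 * cs.simple 3) 1 = Matrix.of U4 := by
    rw [mat_mul_simple, h3]
    ext i j
    rw [Matrix.of_apply, Matrix.of_apply, Matrix.of_apply, Matrix.of_apply, hA]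
    exact step4 i j

  have h5 : Mat cs h (cs.simple 0 * cs.simple 1 * cs.simple 2 * cs.simple 3 * cs.simple 4) 1 = Matrix.of U5 := by
    rw [mat_mul_simple, h4]
    ext i j
    rw [Matrix.of_apply, Matrix.of_apply, Matrix.of_apply, Matrix.of_apply, hA]
    exact step5 i j

  have h6 : Mat cs h (cs.simple 0 * cs.simple 1 * cs.simple 2 * cs.simple 3 * cs.simple 4 * cs.simple 5) 1 = Matrix.of U6 := by
    rw [mat_mul_simple, h5]
    ext i j
    rw [Matrix.of_apply, Matrix.of_apply, Matrix.of_apply, Matrix.of_apply, hA]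
    exact step6 i j

  have h7 : Mat cs h (cs.simple 0 * cs.simple 1 * cs.simple 2 * cs.simple 3 * cs.simple 4 * cs.simple 5 * cs.simple 6) 1 = Matrix.of U7 := by
    rw [mat_mul_simple, h6]
    ext i j
    rw [Matrix.of_apply, Matrix.of_apply, Matrix.of_apply, Matrix.of_apply, hA]
    exact step7 i j

  have h8 : Mat cs h (cs.simple 0 * cs.simple 1 * cs.simple 2 * cs.simple 3 * cs.simple 4 * cs.simple 5 * cs.simple 6 * cs.simple 7) 1 = Matrix.of U8 := by
    rw [mat_mul_simple, h7]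
    ext i j
    rw [Matrix.of_apply, Matrix.of_apply, Matrix.of_apply, Matrix.of_apply, hA]
    exact step8 i j

  let c := cs.simple 0 * cs.simple 1 * cs.simple 2 * cs.simple 3 * cs.simple 4 * cs.simple 5 * cs.simple 6 * cs.simple 7
  have hc : Mat cs h c 1 = Matrix.of U8 := h8
  have hmul : ∀ (X Y Z : Fin 8 → Fin 8 → ℤ), (∀ i j, ∑ k, X i k * Y k j = Z i j) →
      Matrix.of X * Matrix.of Y = (Matrix.of Z : Matrix (Fin 8) (Fin 8) ℤ) := by
    intro X Y Z hXYZ
    ext i j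
    rw [Matrix.mul_apply]
    exact hXYZ i j
  have hc2 : Mat cs h (c ^ 2) 1 = Matrix.of P2 := by rw [mat_pow, hc, sq, hmul _ _ _ mul_P2]
  have hc4 : Mat cs h (c ^ 4) 1 = Matrix.of P4 := by
    rw [show c ^ 4 = c ^ 2 * c ^ 2 by rw [← pow_add], mat_mul, hc2, hmul _ _ _ mul_P4]
  have hc6 : Mat cs h (c ^ 6) 1 = Matrix.of G1 := by
    rw [show c ^ 6 = c ^ 2 * c ^ 4 by rw [← pow_add], mat_mul, hc2, hc4, hmul _ _ _ mul_G1]
  have g2 : Mat cs h ((c ^ 6) ^ 2) 1 = Matrix.of G2 := by rw [mat_pow, hc6, sq, hmul _ _ _ mul_G2]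
  have g3 : Mat cs h ((c ^ 6) ^ 3) 1 = Matrix.of G3 := by
    rw [show (c ^ 6) ^ 3 = c ^ 6 * (c ^ 6) ^ 2 by rw [← pow_succ'], mat_mul, hc6, g2, hmul _ _ _ mul_G3]
  have g4 : Mat cs h ((c ^ 6) ^ 4) 1 = Matrix.of G4 := by
    rw [show (c ^ 6) ^ 4 = (c ^ 6) ^ 2 * (c ^ 6) ^ 2 by rw [← pow_add], mat_mul, g2, hmul _ _ _ mul_G4]
  refine ⟨c ^ 6, ?_⟩
  rw [hc6, g2, g3, g4]
  ext i j
  rw [Matrix.add_apply, Matrix.add_apply, Matrix.add_apply, Matrix.add_apply, Matrix.one_apply]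
  exact sum_eq i j

end

/-! ### orders of parabolic subgroups -/

section

variable {I W : Type*} [Fintype I] [DecidableEq I] [Group W] {M : CoxeterMatrix I} (cs : CoxeterSystem M W)
  {A : I → I → ℤ} (h : IsCartan M A)

/-- if an element `c` of order `5` has no fixed vectors then `5` divides the index of `W_J`, `J ≠ univ` -/
theorem five_dvd_index [Finite W] {c : W}
    (hc : 1 + Mat cs h c 1 + Mat cs h (c ^ 2) 1 + Mat cs h (c ^ 3) 1 + Mat cs h (c ^ 4) 1 = 0)
    {J : Set I} (hJ : J ≠ Set.univ) : 5 ∣ (WJ cs J).index := by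
  have : Fact (Nat.Prime 5) := ⟨by norm_num⟩
  obtain ⟨k, hk⟩ : ∃ k, k ∉ J := by
    by_contra hcon
    push Not at hcon
    exact hJ (Set.eq_univ_of_forall hcon)
  -- the sum of the powers of `c` is zero
  have hsum : ∀ x : I → ℤ, x + rep cs h c x + rep cs h (c ^ 2) x + rep cs h (c ^ 3) x + rep cs h (c ^ 4) x = 0 := by
    have h1 : ∀ i, sr i + rep cs h c (sr i) + rep cs h (c ^ 2) (sr i) + rep cs h (c ^ 3) (sr i) +
        rep cs h (c ^ 4) (sr i) = 0 := by
      intro i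
      funext j
      have h2 := congrFun (congrFun hc i) j
      rw [Matrix.add_apply, Matrix.add_apply, Matrix.add_apply, Matrix.add_apply, Matrix.one_apply] at h2
      rw [Pi.add_apply, Pi.add_apply, Pi.add_apply, Pi.add_apply, Pi.zero_apply]
      rw [← show (0 : ℤ) = (0 : Matrix I I ℤ) i j from rfl] at h2
      rw [← h2]
      congr 4
      by_cases hij : i = j
      · subst hij
        rw [sr_self, if_pos rfl]
      · rw [sr_ne (Ne.symm hij), if_neg hij]
    intro x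
    have h2 : (LinearMap.id + rep cs h c + rep cs h (c ^ 2) + rep cs h (c ^ 3) + rep cs h (c ^ 4) :
        (I → ℤ) →ₗ[ℤ] (I → ℤ)) x = 0 := by
      rw [sum_sr x, map_sum]
      refine Finset.sum_eq_zero fun i _ => ?_
      rw [map_smul]
      have := h1 i
      change x i • (sr i + rep cs h c (sr i) + rep cs h (c ^ 2) (sr i) + rep cs h (c ^ 3) (sr i) +
        rep cs h (c ^ 4) (sr i)) = 0
      rw [this, smul_zero]
    exact h2
  have hc5 : c ^ 5 = 1 := by
    refine Cfsg.Agent.ChevalleyStructure.CoxeterGeom.eq_one_of_fix cs h _ fun i => ?_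
    have h1 := hsum (sr i)
    have h2 := hsum (rep cs h c (sr i))
    have e : ∀ n : ℕ, rep cs h (c ^ n) (rep cs h c (sr i)) = rep cs h (c ^ (n + 1)) (sr i) := by
      intro n
      rw [← rep_mul_apply, pow_succ]
    have e1 : rep cs h c (rep cs h c (sr i)) = rep cs h (c ^ 2) (sr i) := by
      rw [← rep_mul_apply, sq]
    rw [e, e, e, e1] at h2
    change rep cs h (c ^ 5) (sr i) = sr i
    have h3 : rep cs h (c ^ 5) (sr i) - sr i = 0 := by
      calc rep cs h (c ^ 5) (sr i) - sr i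
          = (rep cs h c (sr i) + rep cs h (c ^ 2) (sr i) + rep cs h (c ^ 3) (sr i) + rep cs h (c ^ 4) (sr i) +
              rep cs h (c ^ 5) (sr i)) - (sr i + rep cs h c (sr i) + rep cs h (c ^ 2) (sr i) +
              rep cs h (c ^ 3) (sr i) + rep cs h (c ^ 4) (sr i)) := by abel
        _ = 0 := by rw [h1]; rw [sub_zero]; exact h2
    exact sub_eq_zero.1 h3
  have hP : IsPGroup 5 ↥(Subgroup.zpowers c) := by
    rintro ⟨_, k, rfl⟩
    refine ⟨1, Subtype.ext ?_⟩
    change (c ^ k) ^ 5 ^ 1 = 1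
    rw [pow_one, ← zpow_natCast, ← _root_.zpow_mul, mul_comm, _root_.zpow_mul, zpow_natCast, hc5, _root_.one_zpow]
  have hmod := hP.card_modEq_card_fixedPoints (W ⧸ WJ cs J)
  have hempty : IsEmpty (MulAction.fixedPoints ↥(Subgroup.zpowers c) (W ⧸ WJ cs J)) := by
    refine ⟨?_⟩
    rintro ⟨y, hy⟩
    obtain ⟨g, rfl⟩ := QuotientGroup.mk_surjective y
    have h1 : ((c * g : W) : W ⧸ WJ cs J) = (g : W ⧸ WJ cs J) := hy ⟨c, Subgroup.mem_zpowers c⟩
    have h2 : g⁻¹ * c * g ∈ WJ cs J := by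
      have h3 := QuotientGroup.eq.1 h1.symm
      rwa [← mul_assoc] at h3
    set c' := g⁻¹ * c * g with hc'
    have h3 : ∀ n : ℕ, c' ^ n = g⁻¹ * c ^ n * g := by
      intro n
      rw [hc']
      have := conj_pow (a := g⁻¹) (b := c) (i := n)
      rw [inv_inv] at this
      exact this
    have h4 : ∀ n : ℕ, rep cs h (c ^ n) (rep cs h g (sr k)) = rep cs h g (rep cs h (c' ^ n) (sr k)) := by
      intro n
      rw [← rep_mul_apply, ← rep_mul_apply, h3]
      congr 2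
      group
    have h5 := hsum (rep cs h g (sr k))
    have h6 : rep cs h c (rep cs h g (sr k)) = rep cs h g (rep cs h (c' ^ 1) (sr k)) := by
      have := h4 1
      rwa [pow_one] at this
    rw [h4, h4, h4, h6, ← map_add, ← map_add, ← map_add, ← map_add] at h5
    have h7 := congrArg (rep cs h g⁻¹) h5
    rw [rep_inv_apply, map_zero] at h7
    have h8 := congrFun h7 k
    rw [Pi.add_apply, Pi.add_apply, Pi.add_apply, Pi.add_apply, Pi.zero_apply,
      rep_apply_of_notMem (pow_mem h2 _) hk, rep_apply_of_notMem (pow_mem h2 _) hk,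
      rep_apply_of_notMem (pow_mem h2 _) hk, rep_apply_of_notMem (pow_mem h2 _) hk, sr_self] at h8
    norm_num at h8
  rw [Nat.card_of_isEmpty (α := MulAction.fixedPoints ↥(Subgroup.zpowers c) (W ⧸ WJ cs J))] at hmod
  exact (Nat.modEq_zero_iff_dvd).1 hmod

end

theorem card_W_eq {r : ℕ} {M : CoxeterMatrix (Fin r)} (C : Cfsg.Agent.ChevalleyStructure.WeylChain.Cert r M)
    {W : Type*} [Group W] (cs : CoxeterSystem M W) :
    Nat.card W = Cfsg.Agent.ChevalleyStructure.WeylChain.chainSize C.steps := by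
  rw [← C.card_group]
  exact Nat.card_congr cs.mulEquiv.toEquiv

/-- the primes `ℓ ≥ 5` dividing a number `2 ^ a * 3 ^ b * 5 ^ c * 7 ^ d` -/
theorem eq_five_or_seven {ℓ a b c d : ℕ} (hℓ : ℓ.Prime) (h5 : 5 ≤ ℓ) (h : ℓ ∣ 2 ^ a * 3 ^ b * 5 ^ c * 7 ^ d) :
    ℓ = 5 ∨ ℓ = 7 := by
  rcases (Nat.Prime.dvd_mul hℓ).1 h with h | h
  · rcases (Nat.Prime.dvd_mul hℓ).1 h with h | h
    · rcases (Nat.Prime.dvd_mul hℓ).1 h with h | h
      · have := Nat.le_of_dvd (by norm_num) (hℓ.dvd_of_dvd_pow h)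
        omega
      · have := Nat.le_of_dvd (by norm_num) (hℓ.dvd_of_dvd_pow h)
        omega
    · left
      exact (Nat.prime_dvd_prime_iff_eq hℓ (by norm_num)).1 (hℓ.dvd_of_dvd_pow h)
  · right
    exact (Nat.prime_dvd_prime_iff_eq hℓ (by norm_num)).1 (hℓ.dvd_of_dvd_pow h)

section

variable {W : Type*} [Group W]

theorem sq_not_dvd_F4 (cs : CoxeterSystem CoxeterMatrix.F₄ W) (J : Set (Fin 4)) {ℓ : ℕ} (hℓ : ℓ.Prime) (h5 : 5 ≤ ℓ) :
    ¬ ℓ ^ 2 ∣ Nat.card ↥(WJ cs J) := by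
  intro h
  have h1 : ℓ ^ 2 ∣ 1152 := by
    have h2 := card_W_eq Cfsg.Agent.ChevalleyStructure.WeylData.certF4 cs
    rw [show Cfsg.Agent.ChevalleyStructure.WeylData.certF4.steps = Cfsg.Agent.ChevalleyStructure.WeylData.stepsF4
      from rfl, Cfsg.Agent.ChevalleyStructure.WeylData.size_F4] at h2
    rw [← h2]
    exact h.trans (Subgroup.card_subgroup_dvd_card _)
  rcases eq_five_or_seven hℓ h5 (a := 7) (b := 2) (c := 0) (d := 0) (by
    norm_num; exact (dvd_pow_self ℓ two_ne_zero).trans h1) with rfl | rfl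
  · norm_num at h1
  · norm_num at h1

theorem sq_not_dvd_E6 (cs : CoxeterSystem CoxeterMatrix.E₆ W) (J : Set (Fin 6)) {ℓ : ℕ} (hℓ : ℓ.Prime) (h5 : 5 ≤ ℓ) :
    ¬ ℓ ^ 2 ∣ Nat.card ↥(WJ cs J) := by
  intro h
  have h1 : ℓ ^ 2 ∣ 51840 := by
    have h2 := card_W_eq Cfsg.Agent.ChevalleyStructure.WeylData.certE6 cs
    rw [show Cfsg.Agent.ChevalleyStructure.WeylData.certE6.steps = Cfsg.Agent.ChevalleyStructure.WeylData.stepsE6
      from rfl, Cfsg.Agent.ChevalleyStructure.WeylData.size_E6] at h2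
    rw [← h2]
    exact h.trans (Subgroup.card_subgroup_dvd_card _)
  rcases eq_five_or_seven hℓ h5 (a := 7) (b := 4) (c := 1) (d := 0) (by
    norm_num; exact (dvd_pow_self ℓ two_ne_zero).trans h1) with rfl | rfl
  · norm_num at h1
  · norm_num at h1

theorem sq_not_dvd_E7 (cs : CoxeterSystem CoxeterMatrix.E₇ W) (J : Set (Fin 7)) {ℓ : ℕ} (hℓ : ℓ.Prime) (h5 : 5 ≤ ℓ) :
    ¬ ℓ ^ 2 ∣ Nat.card ↥(WJ cs J) := by
  intro h
  have h1 : ℓ ^ 2 ∣ 2903040 := by
    have h2 := card_W_eq Cfsg.Agent.ChevalleyStructure.WeylData.certE7 cs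
    rw [show Cfsg.Agent.ChevalleyStructure.WeylData.certE7.steps = Cfsg.Agent.ChevalleyStructure.WeylData.stepsE7
      from rfl, Cfsg.Agent.ChevalleyStructure.WeylData.size_E7] at h2
    rw [← h2]
    exact h.trans (Subgroup.card_subgroup_dvd_card _)
  rcases eq_five_or_seven hℓ h5 (a := 10) (b := 4) (c := 1) (d := 1) (by
    norm_num; exact (dvd_pow_self ℓ two_ne_zero).trans h1) with rfl | rfl
  · norm_num at h1
  · norm_num at h1

theorem sq_not_dvd_E8 (cs : CoxeterSystem CoxeterMatrix.E₈ W) {J : Set (Fin 8)} (hJ : J ≠ Set.univ) {ℓ : ℕ}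
    (hℓ : ℓ.Prime) (h5 : 5 ≤ ℓ) : ¬ ℓ ^ 2 ∣ Nat.card ↥(WJ cs J) := by
  intro h
  have hcard : Nat.card W = 696729600 := by
    have h2 := card_W_eq Cfsg.Agent.ChevalleyStructure.WeylData.certE8 cs
    rw [show Cfsg.Agent.ChevalleyStructure.WeylData.certE8.steps = Cfsg.Agent.ChevalleyStructure.WeylData.stepsE8
      from rfl, Cfsg.Agent.ChevalleyStructure.WeylData.size_E8] at h2
    exact h2
  have hfin : Finite W := Nat.finite_of_card_ne_zero (by rw [hcard]; norm_num)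
  have h1 : ℓ ^ 2 ∣ 696729600 := by
    rw [← hcard]
    exact h.trans (Subgroup.card_subgroup_dvd_card _)
  rcases eq_five_or_seven hℓ h5 (a := 14) (b := 5) (c := 2) (d := 1) (by
    norm_num; exact (dvd_pow_self ℓ two_ne_zero).trans h1) with rfl | rfl
  · obtain ⟨c, hc⟩ := exists_five cs isCartan_E8
    have h2 := five_dvd_index cs isCartan_E8 hc hJ
    have h3 := (WJ cs J).card_mul_index
    have h4 : 5 ^ 2 * 5 ∣ Nat.card W := by
      rw [← h3]
      exact mul_dvd_mul h h2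
    rw [hcard] at h4
    norm_num at h4
  · norm_num at h1

theorem sq_not_dvd_W_F4 (cs : CoxeterSystem CoxeterMatrix.F₄ W) {ℓ : ℕ} (hℓ : ℓ.Prime) (h5 : 5 ≤ ℓ) :
    ¬ ℓ ^ 2 ∣ Nat.card W := by
  have h1 := sq_not_dvd_F4 cs Set.univ hℓ h5
  rwa [WJ_univ, Subgroup.card_top] at h1

theorem sq_not_dvd_W_E6 (cs : CoxeterSystem CoxeterMatrix.E₆ W) {ℓ : ℕ} (hℓ : ℓ.Prime) (h5 : 5 ≤ ℓ) :
    ¬ ℓ ^ 2 ∣ Nat.card W := by
  have h1 := sq_not_dvd_E6 cs Set.univ hℓ h5
  rwa [WJ_univ, Subgroup.card_top] at h1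

theorem sq_not_dvd_W_E7 (cs : CoxeterSystem CoxeterMatrix.E₇ W) {ℓ : ℕ} (hℓ : ℓ.Prime) (h5 : 5 ≤ ℓ) :
    ¬ ℓ ^ 2 ∣ Nat.card W := by
  have h1 := sq_not_dvd_E7 cs Set.univ hℓ h5
  rwa [WJ_univ, Subgroup.card_top] at h1

end

end Cfsg.Agent.PRankPar.CardW

end

-- merged: Cfsg.Agent.PRankPar.Inst
section

/-!
# `p`-ranks of `F₄(q)`, `E₆(q)`, `E₇(q)` and of the 2-local subgroups of `E₈(q)`, `q` even, `p ∤ q² - 1`

* `not_rank_F4`, `not_rank_E6`, `not_rank_E7` : `¬ PRankAtLeast p 4 (X(q))`;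
* `not_rank_E8` : `¬ PRankAtLeast p 4 N(R)`, `R ≠ 1` a 2-subgroup of `E₈(q)`;
* `sigma_dvd_F4`, ... : `p ∈ sigmaSet X → p ∣ q² - 1`.
-/

set_option autoImplicit false
set_option linter.unusedSectionVars false

namespace Cfsg.Agent.PRankPar.Inst

open CoxeterSystem Cfsg.Agent.ChevalleyStructure.CoxeterGeom Cfsg.Agent.Tits.Roots Cfsg.Agent.Tits.Core
  Cfsg.Agent.Tits.Exchange
  Cfsg.Agent.Nodes.Reps Cfsg.Agent.Nodes.BNOf Cfsg.Agent.Nodes.Bruhat Cfsg.Agent.Nodes.LeviDec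
  Cfsg.Agent.Nodes.StabComb Cfsg.Agent.Nodes.RGDChev
  Cfsg.Agent.KFacts Cfsg.Agent.KFacts.RgdChevCoord Cfsg.Agent.PRankPar.Chev
open Cfsg.Lie Cfsg.Agent.ChevalleyStructure.CoxeterGeomTypes

universe u v

/-! ### elementary abelian subgroups -/

theorem exists_card_four {G : Type*} [Group G] {p : ℕ} [Fact p.Prime] (h : PRankAtLeast p 4 G) :
    ∃ E : Subgroup G, (∀ a ∈ E, ∀ b ∈ E, a * b = b * a) ∧ (∀ a ∈ E, a ^ p = 1) ∧ Nat.card ↥E = p ^ 4 := by
  obtain ⟨A, hab, hexp, hcard⟩ := h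
  have hp : p.Prime := Fact.out
  have hfin : Finite ↥A := Nat.finite_of_card_ne_zero (by
    have : 0 < p ^ 4 := pow_pos hp.pos 4
    omega)
  have hAp : IsPGroup p ↥A := fun a => ⟨1, Subtype.ext (by
    rw [pow_one, SubmonoidClass.coe_pow, hexp a a.2]; rfl)⟩
  have hd : p ^ 4 ∣ Nat.card ↥A := by
    obtain ⟨m, hm⟩ := (IsPGroup.iff_card (p := p)).1 hAp
    rw [hm] at hcard ⊢
    exact pow_dvd_pow p ((Nat.pow_le_pow_iff_right hp.one_lt).1 hcard)
  obtain ⟨B, hB⟩ := Sylow.exists_subgroup_card_pow_prime p hd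
  refine ⟨B.map A.subtype, ?_, ?_, ?_⟩
  · rintro _ ⟨a, -, rfl⟩ _ ⟨b, -, rfl⟩
    have := hab.is_comm.comm a b
    exact congrArg Subtype.val this
  · rintro _ ⟨a, -, rfl⟩
    exact hexp a a.2
  · rw [← hB]
    exact Subgroup.card_map_of_injective A.subtype_injective

theorem rank_congr {G H : Type*} [Group G] [Group H] (e : G ≃* H) {p k : ℕ} (h : PRankAtLeast p k G) :
    PRankAtLeast p k H := by
  obtain ⟨A, hab, hexp, hcard⟩ := h
  refine ⟨A.map e.toMonoidHom, ⟨⟨?_⟩⟩, ?_, ?_⟩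
  · rintro ⟨_, a, ha, rfl⟩ ⟨_, b, hb, rfl⟩
    apply Subtype.ext
    have h1 := congrArg Subtype.val (hab.is_comm.comm (⟨a, ha⟩ : ↥A) ⟨b, hb⟩)
    have h2 : a * b = b * a := h1
    show e a * e b = e b * e a
    rw [← map_mul, h2, map_mul]
  · rintro _ ⟨a, ha, rfl⟩
    show (e a) ^ p = 1
    rw [← map_pow, hexp a ha, map_one]
  · rw [Subgroup.card_map_of_injective e.injective]
    exact hcard

theorem rank_of_subgroup {G : Type*} [Group G] {M : Subgroup G} {p k : ℕ} (h : PRankAtLeast p k ↥M) :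
    ∃ A ≤ M, IsMulCommutative A ∧ (∀ a ∈ A, a ^ p = 1) ∧ p ^ k ≤ Nat.card ↥A := by
  obtain ⟨A, hab, hexp, hcard⟩ := h
  refine ⟨A.map M.subtype, ?_, ⟨⟨?_⟩⟩, ?_, ?_⟩
  · rintro _ ⟨a, -, rfl⟩; exact a.2
  · rintro ⟨_, a, ha, rfl⟩ ⟨_, b, hb, rfl⟩
    apply Subtype.ext
    have h1 := congrArg Subtype.val (hab.is_comm.comm (⟨a, ha⟩ : ↥A) ⟨b, hb⟩)
    have h2 : a * b = b * a := h1
    show M.subtype a * M.subtype b = M.subtype b * M.subtype a
    rw [← map_mul, h2, map_mul]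
  · rintro _ ⟨a, ha, rfl⟩
    exact congrArg Subtype.val (hexp a ha)
  · rw [Subgroup.card_map_of_injective M.subtype_injective]
    exact hcard

theorem rank_mono {G : Type*} [Group G] {M : Subgroup G} {p k : ℕ} (h : PRankAtLeast p k ↥M) : PRankAtLeast p k G := by
  obtain ⟨A, -, h1, h2, h3⟩ := rank_of_subgroup h
  exact ⟨A, h1, h2, h3⟩

/-! ### arithmetic -/

theorem card_char_two (F : Type*) [Field F] [Finite F] [CharP F 2] : ∃ k : ℕ, 0 < k ∧ Nat.card F = 2 ^ k := by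
  have := Fintype.ofFinite F
  obtain ⟨n, -, hn⟩ := FiniteField.card F 2
  exact ⟨n, n.pos, by rw [Nat.card_eq_fintype_card, hn]⟩

theorem three_dvd (k : ℕ) : 3 ∣ (2 ^ k) ^ 2 - 1 := by
  have h1 : (2 ^ k) ^ 2 = 4 ^ k := by rw [← pow_mul, mul_comm, pow_mul]; norm_num
  rw [h1]
  have h2 : 4 ^ k ≡ 1 [MOD 3] := by
    have : 4 ≡ 1 [MOD 3] := by decide
    simpa using this.pow k
  exact (Nat.modEq_iff_dvd' (Nat.one_le_pow _ _ (by norm_num))).1 h2.symm

theorem five_le {F : Type*} [Field F] [Finite F] [CharP F 2] {p : ℕ} (hp : p.Prime) (h2 : p ≠ 2)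
    (hd : ¬ p ∣ Nat.card F ^ 2 - 1) : 5 ≤ p := by
  obtain ⟨k, -, hk⟩ := card_char_two F
  have h3 : p ≠ 3 := by
    rintro rfl
    apply hd
    rw [hk]
    exact three_dvd k
  have := hp.two_le
  by_contra hlt
  have h4 : p = 4 := by omega
  subst h4
  exact absurd hp (by norm_num)

theorem cast_facts {F : Type*} [Field F] [Finite F] [CharP F 2] {p : ℕ} [Fact p.Prime] (h2 : p ≠ 2)
    (hd : ¬ p ∣ Nat.card F ^ 2 - 1) : ((Nat.card F : ℕ) : ZMod p) ≠ 0 ∧ ((Nat.card F : ℕ) : ZMod p) ^ 2 ≠ 1 := by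
  have hp : p.Prime := Fact.out
  obtain ⟨k, -, hk⟩ := card_char_two F
  have hpos : 1 ≤ Nat.card F := Nat.card_pos
  constructor
  · rw [Ne, ZMod.natCast_eq_zero_iff, hk]
    intro h
    exact h2 ((Nat.prime_dvd_prime_iff_eq hp Nat.prime_two).1 (hp.dvd_of_dvd_pow h))
  · intro h
    apply hd
    rw [← ZMod.natCast_eq_zero_iff, Nat.cast_sub (Nat.one_le_pow _ _ hpos), Nat.cast_pow, h, Nat.cast_one, sub_self]

/-! ### the field extension -/

theorem exists_ext (F : Type v) [Field F] [Finite F] [CharP F 2] {p : ℕ} [Fact p.Prime] (h2 : p ≠ 2) :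
    ∃ (K : Type) (_ : Field K) (_ : Finite K) (_ : CharP K 2) (f : F →+* K) (τ : K ≃+* K),
      (∀ a, τ a = a ^ Nat.card F) ∧ (∀ a, τ (f a) = f a) ∧ p ^ 2 ∣ Nat.card K - 1 := by
  have hp : p.Prime := Fact.out
  have : Fact (Nat.Prime 2) := ⟨Nat.prime_two⟩
  have hN : NeZero (Nat.totient (p ^ 2)) := ⟨(Nat.totient_pos.2 (pow_pos hp.pos 2)).ne'⟩
  let _ : Algebra (ZMod 2) F := ZMod.algebra F 2
  refine ⟨FiniteField.Extension F 2 (Nat.totient (p ^ 2)), inferInstance, inferInstance,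
    charP_of_injective_ringHom (algebraMap F (FiniteField.Extension F 2 (Nat.totient (p ^ 2)))).injective 2,
    algebraMap F _, (FiniteField.Extension.frob F 2 (Nat.totient (p ^ 2))).toRingEquiv, fun a => ?_, fun a => ?_, ?_⟩
  · exact FiniteField.Extension.frob_apply ..
  · exact AlgEquiv.commutes _ a
  · rw [FiniteField.natCard_extension]
    obtain ⟨k, -, hk⟩ := card_char_two F
    have hco : (Nat.card F).Coprime (p ^ 2) := by
      rw [hk]
      exact Nat.Coprime.pow _ _ ((Nat.coprime_primes Nat.prime_two hp).2 (Ne.symm h2))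
    have h1 := Nat.ModEq.pow_totient hco
    exact (Nat.modEq_iff_dvd' (Nat.one_le_pow _ _ Nat.card_pos)).1 h1.symm

/-! ### the main theorem for the untwisted groups -/

section Main

variable {D : ChevalleyDatum} {l : ℕ} {M : CoxeterMatrix (Fin l)} (hp : IsType D l M)
  {W : Type*} [Group W] (cs : CoxeterSystem M W)

theorem not_four (F : Type v) [Field F] [Finite F] [CharP F 2] {p : ℕ} [Fact p.Prime] (h2 : p ≠ 2)
    {J : Set (Fin l)} (hW : ¬ p ^ 2 ∣ Nat.card ↥(WJ cs J))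
    (hA : ∀ w ∈ WJ cs J, ∀ S : Set (Fin l → ZMod p),
      (∀ a ∈ S, ∀ i, ∑ j, ((rep cs hp.isCartan w (sr ((1 : Equiv.Perm (Fin l)) i)) j : ℤ) : ZMod p) * a j =
        ((Nat.card F : ℕ) : ZMod p) * a i) → Nat.card ↥S ≤ p ^ 3)
    (hB : ∀ w ∈ WJ cs J, ∀ S : Set (Fin l → ZMod p),
      (∀ a ∈ S, ∀ i, ∑ j, ((rep cs hp.isCartan w (sr ((1 : Equiv.Perm (Fin l)) i)) j : ℤ) : ZMod p) * a j =
        ((Nat.card F : ℕ) : ZMod p) * a i) →
      p ^ 3 ≤ Nat.card ↥S → ∀ v ∈ WJ cs J, v ^ p = 1 →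
      (∀ a ∈ S, ∀ i, ∑ j, ((rep cs hp.isCartan v (sr i) j : ℤ) : ZMod p) * a j = a i) → v = 1)
    {E : Subgroup ↥(D.group F)} (hE : E ≤ PJ cs hp.isCartan (TT D F) (XX D l F) J)
    (hEab : ∀ a ∈ E, ∀ b ∈ E, a * b = b * a) (hexp : ∀ t ∈ E, t ^ p = 1) (hcard : Nat.card ↥E = p ^ 4) : False := by
  have : Fact (Nat.Prime 2) := ⟨Nat.prime_two⟩
  have hWf := finite_W hp cs
  obtain ⟨K, _, _, _, f, τ, hτ, hτf, hQ⟩ := exists_ext F (p := p) h2
  refine Frob.not_four (r := 2) (T := TT D K) (X := XX D l K) (rgd (K := K) hp cs 2) (p := p) h2 hQ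
    (coords hp cs 2) (T_comm hp cs 2) (faithful hp cs 2) (ch_prod hp cs 2) (tau_field hp τ) (q := Nat.card F) hτ
    (J := J) (fun y hy => emb_PJ hp cs (τ : K →+* K) hy) hW hA hB
    (E := E.map (emb hp.inList f)) ?_ ?_ ?_ ?_ ?_
  · rintro _ ⟨e, he, rfl⟩
    exact emb_PJ hp cs f (hE he)
  · rintro _ ⟨a, ha, rfl⟩ _ ⟨b, hb, rfl⟩
    rw [← map_mul, hEab a ha b hb, map_mul]
  · rintro _ ⟨a, ha, rfl⟩
    rw [← map_pow, hexp a ha, map_one]
  · rw [Subgroup.card_map_of_injective (emb_injective hp.inList f), hcard]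
  · rintro _ ⟨a, ha, rfl⟩
    exact fieldAut_emb hp.inList hτf a

include hp cs in
/-- ranks at most 7 -/
theorem not_rank (F : Type v) [Field F] [Finite F] [CharP F 2] {p : ℕ} [Fact p.Prime] (h2 : p ≠ 2)
    (hd : ¬ p ∣ Nat.card F ^ 2 - 1) {d : Fin l → ℤ} (hF : Weyl.FormData (cartanOf D l) p d) (hl : l ≤ 7)
    (hW : ¬ p ^ 2 ∣ Nat.card W) : ¬ PRankAtLeast p 4 ↥(D.group F) := by
  intro h
  have : Fact (Nat.Prime 2) := ⟨Nat.prime_two⟩
  have hWf := finite_W hp cs
  have h5 := five_le Fact.out h2 hd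
  obtain ⟨hq, hq2⟩ := cast_facts (F := F) (p := p) h2 hd
  obtain ⟨E, hab, hexp, hcard⟩ := exists_card_four h
  refine not_four hp cs F h2 (J := Set.univ) ?_ ?_ ?_ (E := E) ?_ hab hexp hcard
  · rw [WJ_univ]
    have : Nat.card ↥(⊤ : Subgroup W) = Nat.card W := Nat.card_congr Subgroup.topEquiv.toEquiv
    rw [this]; exact hW
  · intro w _ S hS
    have h1 := Weyl.card_le' (cs := cs) (h := hp.isCartan) hF (σ := 1) (fun _ _ => rfl) (fun _ => rfl) hq hq2 S hS
    refine h1.trans (Nat.pow_le_pow_right (by omega) ?_)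
    rw [Fintype.card_fin]
    omega
  · intro w _ S hS h3 v _ hv hfix
    exact Weyl.eq_one_of_fix' (cs := cs) (h := hp.isCartan) hF (σ := 1) (fun _ _ => rfl) (fun _ => rfl) hq hq2 S hS
      (by rw [Fintype.card_fin]; exact hl) h5 h3 hv hfix
  · have h1 : GG cs hp.isCartan (TT D F) (XX D l F) = ⊤ := by
      rw [eq_top_iff, ← G1_eq_top hp cs]
      exact le_sup_right
    intro y _
    apply LJ_le_PJ
    rw [LJ_univ, h1]
    trivial

end Main

theorem type_F4 : IsType chevF4 4 CoxeterMatrix.F₄ := by simp [IsType, typeList]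
theorem type_E6 : IsType chevE6 6 CoxeterMatrix.E₆ := by simp [IsType, typeList]
theorem type_E7 : IsType chevE7 7 CoxeterMatrix.E₇ := by simp [IsType, typeList]
theorem type_E8 : IsType chevE8 8 CoxeterMatrix.E₈ := by simp [IsType, typeList]

variable (F : Type v) [Field F] [Finite F] [CharP F 2] {p : ℕ} [Fact p.Prime] (h2 : p ≠ 2)
  (hd : ¬ p ∣ Nat.card F ^ 2 - 1)

include h2 hd

theorem not_rank_F4 : ¬ PRankAtLeast p 4 ↥(chevF4.group F) :=
  not_rank type_F4 CoxeterMatrix.F₄.toCoxeterSystem F h2 hd (CardW.formData_F4 (five_le Fact.out h2 hd)) (by norm_num)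
    (CardW.sq_not_dvd_W_F4 CoxeterMatrix.F₄.toCoxeterSystem Fact.out (five_le Fact.out h2 hd))

theorem not_rank_E6 : ¬ PRankAtLeast p 4 ↥(chevE6.group F) :=
  not_rank type_E6 CoxeterMatrix.E₆.toCoxeterSystem F h2 hd (CardW.formData_E6 (five_le Fact.out h2 hd)) (by norm_num)
    (CardW.sq_not_dvd_W_E6 CoxeterMatrix.E₆.toCoxeterSystem Fact.out (five_le Fact.out h2 hd))

theorem not_rank_E7 : ¬ PRankAtLeast p 4 ↥(chevE7.group F) :=
  not_rank type_E7 CoxeterMatrix.E₇.toCoxeterSystem F h2 hd (CardW.formData_E7 (five_le Fact.out h2 hd)) (by norm_num)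
    (CardW.sq_not_dvd_W_E7 CoxeterMatrix.E₇.toCoxeterSystem Fact.out (five_le Fact.out h2 hd))

/-- **the 2-local subgroups of `E₈(q)`** -/
theorem not_rank_E8 {R : Subgroup ↥(chevE8.group F)} (hR : IsPGroup 2 ↥R) (hR1 : R ≠ ⊥) :
    ¬ PRankAtLeast p 4 ↥(Subgroup.normalizer (R : Set ↥(chevE8.group F))) := by
  intro h
  have : Fact (Nat.Prime 2) := ⟨Nat.prime_two⟩
  let cs := CoxeterMatrix.E₈.toCoxeterSystem
  have hWf := finite_W type_E8 cs
  have h5 := five_le Fact.out h2 hd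
  obtain ⟨hq, hq2⟩ := cast_facts (F := F) (p := p) h2 hd
  have hGG : GG cs type_E8.isCartan (TT chevE8 F) (XX chevE8 8 F) = ⊤ := by
    rw [eq_top_iff, ← G1_eq_top type_E8 cs]
    exact le_sup_right
  obtain ⟨g, J, hJ, -, hN⟩ := RgdBorelTits.borel_tits (RgdFiltChev.filt (K := F) type_E8 cs 2) hGG hR hR1
  obtain ⟨E, hab, hexp, hcard⟩ := exists_card_four h
  -- conjugate into `P_J`
  let φ : ↥(Subgroup.normalizer (R : Set ↥(chevE8.group F))) →* ↥(chevE8.group F) :=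
    (MulAut.conj g⁻¹).toMonoidHom.comp (Subgroup.normalizer (R : Set ↥(chevE8.group F))).subtype
  have hφ : Function.Injective φ := (MulAut.conj g⁻¹).injective.comp (Subgroup.subtype_injective _)
  have hK : (Jᶜ : Set (Fin 8)).Nonempty := Set.nonempty_compl.2 hJ
  refine not_four type_E8 cs F h2 (J := J) (CardW.sq_not_dvd_E8 cs hJ Fact.out h5) ?_ ?_ (E := E.map φ) ?_ ?_ ?_ ?_
  · intro w hw S hS
    have h1 := Weyl.card_le (cs := cs) (h := type_E8.isCartan) (CardW.formData_E8 h5) (σ := 1) (fun _ _ => rfl)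
      (fun _ => rfl) hK (fun k hk => hk) (fun _ => Iff.rfl) hw hq hq2 S hS
    refine h1.trans (Nat.pow_le_pow_right (by omega) ?_)
    rw [Fintype.card_fin]
  · intro w hw S hS h3 v _ hv hfix
    exact Weyl.eq_one_of_fix (cs := cs) (h := type_E8.isCartan) (CardW.formData_E8 h5) (σ := 1) (fun _ _ => rfl)
      (fun _ => rfl) hK (fun k hk => hk) (fun _ => Iff.rfl) hw hq hq2 S hS (by rw [Fintype.card_fin]) h5 h3 hv hfix
  · rintro _ ⟨a, -, rfl⟩
    have h1 := hN a.2
    rw [mem_cj] at h1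
    show g⁻¹ * (a : ↥(chevE8.group F)) * g⁻¹⁻¹ ∈ _
    rwa [inv_inv]
  · rintro _ ⟨a, ha, rfl⟩ _ ⟨b, hb, rfl⟩
    rw [← map_mul, hab a ha b hb, map_mul]
  · rintro _ ⟨a, ha, rfl⟩
    rw [← map_pow, hexp a ha, map_one]
  · rw [Subgroup.card_map_of_injective hφ, hcard]

omit h2 hd

/-! ### the sets `σ` -/

theorem sigma_dvd_of_rank {G : Type*} [Group G] {H : Type*} [Group H] (e : G ≃* H)
    (hH : ∀ q : ℕ, q.Prime → q ≠ 2 → ¬ q ∣ Nat.card F ^ 2 - 1 → ¬ PRankAtLeast q 4 H) {q : ℕ} (hq : q ∈ sigmaSet G) :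
    q ∣ Nat.card F ^ 2 - 1 := by
  obtain ⟨hq, hq2, S, M, -, hM⟩ := hq
  by_contra hcon
  exact hH q hq hq2 hcon (rank_congr e (rank_mono hM))

theorem sigma_dvd_F4 {G : Type*} [Group G] (e : G ≃* ↥(chevF4.group F)) {q : ℕ} (hq : q ∈ sigmaSet G) :
    q ∣ Nat.card F ^ 2 - 1 :=
  sigma_dvd_of_rank F e (fun q hq h2 hd => by
    have : Fact q.Prime := ⟨hq⟩
    exact not_rank_F4 F h2 hd) hq

theorem sigma_dvd_E6 {G : Type*} [Group G] (e : G ≃* ↥(chevE6.group F)) {q : ℕ} (hq : q ∈ sigmaSet G) :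
    q ∣ Nat.card F ^ 2 - 1 :=
  sigma_dvd_of_rank F e (fun q hq h2 hd => by
    have : Fact q.Prime := ⟨hq⟩
    exact not_rank_E6 F h2 hd) hq

theorem sigma_dvd_E7 {G : Type*} [Group G] (e : G ≃* ↥(chevE7.group F)) {q : ℕ} (hq : q ∈ sigmaSet G) :
    q ∣ Nat.card F ^ 2 - 1 :=
  sigma_dvd_of_rank F e (fun q hq h2 hd => by
    have : Fact q.Prime := ⟨hq⟩
    exact not_rank_E7 F h2 hd) hq

theorem sigma_dvd_E8 {G : Type*} [Group G] (e : G ≃* ↥(chevE8.group F)) {q : ℕ} (hq : q ∈ sigmaSet G) :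
    q ∣ Nat.card F ^ 2 - 1 := by
  obtain ⟨hq, hq2, S, M, hMm, hM⟩ := hq
  by_contra hcon
  have : Fact q.Prime := ⟨hq⟩
  obtain ⟨⟨R, hR, hR1, rfl⟩, -⟩ := hMm.1
  have hR' : IsPGroup 2 ↥(R.map e.toMonoidHom) := hR.map _
  have hR1' : R.map e.toMonoidHom ≠ ⊥ := by
    intro h
    apply hR1
    rw [Subgroup.map_eq_bot_iff_of_injective _ e.injective] at h
    exact h
  apply not_rank_E8 F hq2 hcon hR' hR1'
  -- transport of the normalizer
  have h1 : Subgroup.normalizer (R.map e.toMonoidHom : Set ↥(chevE8.group F)) =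
      (Subgroup.normalizer (R : Set G)).map e.toMonoidHom := by
    ext y
    rw [Subgroup.mem_map_equiv, Subgroup.mem_normalizer_iff, Subgroup.mem_normalizer_iff]
    constructor
    · intro h x
      have h2 := h (e x)
      rw [Subgroup.mem_map_equiv, Subgroup.mem_map_equiv] at h2
      simpa only [_root_.MulEquiv.symm_apply_apply, _root_.map_mul, _root_.map_inv] using h2
    · intro h x
      rw [Subgroup.mem_map_equiv, Subgroup.mem_map_equiv]
      have h2 := h (e.symm x)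
      simpa only [_root_.map_mul, _root_.map_inv] using h2
  rw [h1]
  exact rank_congr ((Subgroup.normalizer (R : Set G)).equivMapOfInjective e.toMonoidHom e.injective) hM

end Cfsg.Agent.PRankPar.Inst

end

private theorem dce_aaa5e281f445 : _root_.True := by
  try have : _root_.True := by simp only [_root_.Cfsg.Agent.Nodes.NormalForm.NW.congr_simp]
  try have : _root_.True := by simp only [_root_.Cfsg.Agent.PRankPar.Chev.emb.congr_simp]
  try have : _root_.True := by simp only [_root_.Cfsg.Agent.PRankPar.Weyl.Mat.congr_simp]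
  exact _root_.True.intro
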